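import Groth.Prelude.Def_VanCyc
import Groth.Agent.Smoothlim.SmoothLocusBC
import Mathlib.AlgebraicGeometry.Noetherian
import Mathlib.AlgebraicGeometry.Morphisms.Smooth
import Mathlib.AlgebraicGeometry.Morphisms.Proper
import Mathlib.AlgebraicGeometry.Morphisms.Flat

/-!
# Smoothness transfer from the special fibre to the total space

For `f : X ⟶ Spec R` flat and locally of finite presentation over a local ring, an open of the special
fibre which is smooth over the residue field lies in an open of `X` which is smooth over `R`.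
-/

set_option autoImplicit false
universe u
open CategoryTheory CategoryTheory.Limits AlgebraicGeometry

namespace Groth.Agent.Vancyc.H678.SmoothW

/-- A locally finite type scheme over a noetherian affine base is locally of finite presentation. -/
theorem lfp_of_noeth {R : Type u} [CommRing R] [IsNoetherianRing R] {X : Scheme.{u}}
    (f : X ⟶ Spec (CommRingCat.of R)) [LocallyOfFiniteType f] : LocallyOfFinitePresentation f := by
  have : IsNoetherianRing (CommRingCat.of R : CommRingCat.{u}) := ‹_›
  have : IsLocallyNoetherian (Spec (CommRingCat.of R)) := inferInstance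
  exact LocallyOfFinitePresentation.iff_locallyOfFiniteType.2 ‹_›

/-- The smooth locus restricted: `W.ι ≫ f` is smooth for `W` the smooth locus of `f`. -/
theorem smooth_smoothLocus_ι {X S : Scheme.{u}} (f : X ⟶ S) [LocallyOfFinitePresentation f] :
    Smooth (f.smoothLocus.ι ≫ f) := by
  rw [← Scheme.Hom.smoothLocus_eq_top_iff, ← Scheme.Hom.preimage_smoothLocus_eq]
  simp

section

variable (R : Type u) [CommRing R] [IsLocalRing R] {X : Scheme.{u}} (f : X ⟶ Spec (CommRingCat.of R))

/-- `f` is smooth at the image of `x` as soon as the special fibre is smooth at `x`. -/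
theorem icl_mem_smoothLocus [LocallyOfFinitePresentation f] [Flat f]
    (x : ↥(VanCyc.spFib R f)) (hx : x ∈ (VanCyc.spStr R f).smoothLocus) :
    (VanCyc.icl R f).base x ∈ f.smoothLocus := by
  have h : IsPullback (VanCyc.icl R f) (VanCyc.spStr R f) f (VanCyc.toSk R) :=
    IsPullback.of_hasPullback _ _
  refine (Groth.Agent.Smoothlim.SmoothLocusBC.mem_smoothLocus_iff_of_isPullback h x
    (Or.inl ?_)).1 hx
  exact Flat.stalkMap f _

/-- An open of the special fibre which is smooth over the residue field is contained in the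
preimage of an open of `X` smooth over `R`. -/
theorem exists_opens_smooth [LocallyOfFinitePresentation f] [Flat f]
    (U : (VanCyc.spFib R f).Opens) (hUs : Smooth (U.ι ≫ VanCyc.spStr R f)) :
    ∃ W : X.Opens, Smooth (W.ι ≫ f) ∧ ∀ x ∈ U, (VanCyc.icl R f).base x ∈ W := by
  refine ⟨f.smoothLocus, smooth_smoothLocus_ι f, fun x hx => icl_mem_smoothLocus R f x ?_⟩
  have h1 := Scheme.Hom.smoothLocus_eq_top (U.ι ≫ VanCyc.spStr R f)
  rw [← Scheme.Hom.preimage_smoothLocus_eq] at h1
  have h2 : (⟨x, hx⟩ : ↥U) ∈ U.ι ⁻¹ᵁ (VanCyc.spStr R f).smoothLocus := by rw [h1]; trivial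
  exact h2

/-- The form used in the Picard–Lefschetz rows: the special fibre is smooth of relative dimension
`n` outside `Sing`. -/
theorem exists_opens_smooth_of_sing [IsNoetherianRing R] [LocallyOfFiniteType f] [Flat f] (n : ℕ)
    (Sing : Finset ↥(VanCyc.spFib R f))
    (U : (VanCyc.spFib R f).Opens) (hU : ∀ x : ↥(VanCyc.spFib R f), x ∉ Sing → x ∈ U)
    (hUs : SmoothOfRelativeDimension n (U.ι ≫ VanCyc.spStr R f)) :
    ∃ W : X.Opens, Smooth (W.ι ≫ f) ∧
      ∀ x : ↥(VanCyc.spFib R f), x ∉ Sing → (VanCyc.icl R f).base x ∈ W := by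
  have : LocallyOfFinitePresentation f := lfp_of_noeth f
  have := SmoothOfRelativeDimension.smooth n (U.ι ≫ VanCyc.spStr R f)
  obtain ⟨W, hW, h⟩ := exists_opens_smooth R f U this
  exact ⟨W, hW, fun x hx => h x (hU x hx)⟩

end

section

variable (R K : Type u) [CommRing R] [Field K] [Algebra R K] {X : Scheme.{u}}
  (f : X ⟶ Spec (CommRingCat.of R))

/-- The generic fibre of the open subscheme `⊤` is smooth if the generic fibre of `f` is: the input
`V = ⊤` of the local Picard–Lefschetz rows. -/
theorem smooth_top_generic (V : X.Opens) (hη : Smooth (VanCyc.fibStr R f K)) :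
    Smooth (pullback.snd (V.ι ≫ f) (VanCyc.toS R K)) := by
  have sq := (IsPullback.of_hasPullback V.ι (VanCyc.jA R f K)).paste_vert
    (IsPullback.of_hasPullback f (VanCyc.toS R K))
  rw [← sq.isoPullback_inv_snd]
  infer_instance

end

end Groth.Agent.Vancyc.H678.SmoothW
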