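import Groth.Prelude.Def_VanCyc
import Groth.Agent.Etcore.HpVia

/-!
# Galois action on the cohomology of the geometric generic fibre and restriction from `X`

* `galH_Hpull`: `galH f σ F q (Hpull jbar F q x) = Hpull jbar F q x`: classes restricted from `X` are
  fixed by every `σ`.
* `galH_one`, `galH_mul`: `σ ↦ galH f σ` is an action (contravariant composition).
-/

set_option autoImplicit false
universe u
open CategoryTheory CategoryTheory.Limits AlgebraicGeometry
open scoped Groth.Agent.Etcore.EtInst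
open Groth.Agent.Etcore.EtInst Groth.Agent.Etcore.HpullCalc Groth.Agent.Etcore.HpVia

namespace Groth.Agent.Vancyc.H678.GalH

variable {R : Type u} [CommRing R] {K : Type u} [Field K] [Algebra R K] {Ω : Type u} [Field Ω]
  [Algebra K Ω] [Algebra R Ω] [IsScalarTower R K Ω]
  {X : Scheme.{u}} (f : X ⟶ Spec (CommRingCat.of R))

theorem galH_eq_hpVia (σ : Ω ≃ₐ[K] Ω) [PreservesFiniteLimits (EtCoh.pull (VanCyc.galGeom f σ))]
    (F : EtCoh.Ab X) (q : ℕ) :
    VanCyc.galH f σ F q = hpVia (VanCyc.galGeom f σ) (VanCyc.jA R f Ω) (VanCyc.jA R f Ω)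
      (VanCyc.galGeom_jA f σ) F q := rfl

/-- A class which comes from `X` is fixed by `σ`. -/
theorem galH_Hpull (σ : Ω ≃ₐ[K] Ω) [PreservesFiniteLimits (EtCoh.pull (VanCyc.galGeom f σ))]
    [PreservesFiniteLimits (EtCoh.pull (VanCyc.jA R f Ω))]
    (F : EtCoh.Ab X) (q : ℕ) (x : EtCoh.H X F q) :
    VanCyc.galH f σ F q (EtCore.Hpull (VanCyc.jA R f Ω) F q x) =
      EtCore.Hpull (VanCyc.jA R f Ω) F q x :=
  hpVia_hp (VanCyc.galGeom f σ) (VanCyc.jA R f Ω) (VanCyc.jA R f Ω) (VanCyc.galGeom_jA f σ) F q x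

end Groth.Agent.Vancyc.H678.GalH
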