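import Groth.Agent.Krr.H463.HomTensor
import Groth.Agent.Sga67.LocBasisStalk
import Groth.Agent.Sga67.LocBasisOps
import Mathlib.LinearAlgebra.Matrix.NonsingularInverse
import Mathlib.LinearAlgebra.Dimension.StrongRankCondition

/-!
# Families of maps `G ⟶ D` (`D` invertible) generating `Hom(G, D)`

`GenAt s z`: near `z` there are a basis `e` of `G` and a generator `d` of `D` with `s (α i) (e j) = δ_ij d`.
`exists_genFam`: an epimorphism `O^N ⟶ Hom(G, D)` gives such a family.
-/

set_option autoImplicit false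
universe u
open CategoryTheory CategoryTheory.Limits AlgebraicGeometry TopologicalSpace Opposite

namespace Groth.Agent.Vancyc.H678.GenFam

open Groth.Agent.Sga67.Sec Groth.Agent.Sga67.LocBasis Groth.Agent.Sga67.LocBasisStalk
open Groth.Agent.CohqB.HomSheaf (homSheaf)
open Groth.Agent.Krr.H463.HomBasis

section alg

/-- A left invertible matrix over a ring has a square submatrix of rows with nonzero determinant at a
given field-valued point. -/
theorem exists_submatrix {R K : Type*} [CommRing R] [Field K] (φ : R →+* K) {m N : ℕ}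
    (C : Matrix (Fin m) (Fin N) R) (B : Matrix (Fin N) (Fin m) R) (h : C * B = 1) :
    ∃ α : Fin m → Fin N, φ (B.submatrix α id).det ≠ 0 := by
  let B' : Fin N → (Fin m → K) := fun a j => φ (B a j)
  have hspan : Submodule.span K (Set.range B') = ⊤ := by
    rw [eq_top_iff]
    intro x _
    rw [pi_eq_sum_univ' x]
    refine Submodule.sum_mem _ fun i _ => Submodule.smul_mem _ _ ?_
    have h1 : (Pi.single i (1 : K) : Fin m → K) = ∑ a, φ (C i a) • B' a := by
      funext j
      have h2 := congrArg φ (congrFun (congrFun h i) j)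
      rw [Matrix.mul_apply, map_sum, Matrix.one_apply] at h2
      rw [Finset.sum_apply, Pi.single_apply]
      have h3 : (if j = i then (1 : K) else 0) = φ (if i = j then 1 else 0) := by
        simp only [eq_comm (a := i)]
        split_ifs <;> simp
      rw [h3, ← h2]
      refine Finset.sum_congr rfl fun a _ => ?_
      rw [map_mul, Pi.smul_apply, smul_eq_mul]
    rw [h1]
    exact Submodule.sum_mem _ fun a _ => Submodule.smul_mem _ _ (Submodule.subset_span ⟨a, rfl⟩)
  obtain ⟨f, hf, -, hli⟩ := Submodule.exists_fun_fin_finrank_span_eq K (Set.range B')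
  have hm : Module.finrank K (Submodule.span K (Set.range B')) = m := by
    rw [hspan, finrank_top, Module.finrank_fin_fun]
  choose α hα using hf
  refine ⟨fun i => α (Fin.cast hm.symm i), ?_⟩
  have h4 : φ (B.submatrix (fun i => α (Fin.cast hm.symm i)) id).det =
      (Matrix.of fun i j => f (Fin.cast hm.symm i) j).det := by
    rw [RingHom.map_det]
    congr 1
    ext i j
    rw [RingHom.mapMatrix_apply, Matrix.map_apply, Matrix.submatrix_apply, Matrix.of_apply, ← hα]
    rfl
  rw [h4]
  have h5 : LinearIndependent K (Matrix.of fun i j => f (Fin.cast hm.symm i) j).row :=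
    hli.comp _ (Fin.cast_injective hm.symm)
  rw [Matrix.linearIndependent_rows_iff_isUnit, Matrix.isUnit_iff_isUnit_det] at h5
  exact h5.ne_zero

end alg

section basis

variable {X : Scheme.{u}}

theorem resO_sum {U V : X.Opens} (h : V ≤ U) {κ : Type*} (S : Finset κ) (f : κ → Γ(X, U)) :
    resO X h (∑ i ∈ S, f i) = ∑ i ∈ S, resO X h (f i) := map_sum _ _ _

/-- A local basis transformed by an invertible matrix. -/
theorem isLocBasis_matrix {M : X.Modules} {U : X.Opens} {κ : Type*} [Fintype κ] [DecidableEq κ]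
    {b : κ → Sec M U} (hb : IsLocBasis b) (A B : Matrix κ κ Γ(X, U)) (hAB : A * B = 1)
    (hBA : B * A = 1) : IsLocBasis (fun j => ∑ l, A l j • b l) := by
  intro V h
  have key : ∀ a : κ → Γ(X, V), comb (fun j => ∑ l, A l j • b l) h a =
      comb b h ((A.map (resO X h)).mulVec a) := by
    intro a
    rw [comb_apply, comb_apply]
    simp only [map_sum, res_smul, Finset.smul_sum, Matrix.mulVec, dotProduct, Matrix.map_apply,
      Finset.sum_smul, smul_smul]
    rw [Finset.sum_comm]
    refine Finset.sum_congr rfl fun l _ => Finset.sum_congr rfl fun j _ => ?_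
    rw [mul_comm]
  have hm1 : (A.map (resO X h)) * (B.map (resO X h)) = 1 := by
    rw [← Matrix.map_mul, hAB, Matrix.map_one _ (map_zero _) (map_one _)]
  have hm2 : (B.map (resO X h)) * (A.map (resO X h)) = 1 := by
    rw [← Matrix.map_mul, hBA, Matrix.map_one _ (map_zero _) (map_one _)]
  have hf : (comb (fun j => ∑ l, A l j • b l) h : (κ → Γ(X, V)) → Sec M V) =
      (comb b h) ∘ (A.map (resO X h)).mulVec := funext key
  rw [hf]
  refine (hb V h).comp ⟨?_, ?_⟩
  · intro x y hxy
    have h1 := congrArg (B.map (resO X h)).mulVec hxy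
    rw [Matrix.mulVec_mulVec, Matrix.mulVec_mulVec, hm2, Matrix.one_mulVec, Matrix.one_mulVec] at h1
    exact h1
  · intro y
    exact ⟨(B.map (resO X h)).mulVec y, by rw [Matrix.mulVec_mulVec, hm1, Matrix.one_mulVec]⟩

/-- Coordinates with respect to a local generator. -/
theorem exists_smul_eq {D : X.Modules} {U : X.Opens} {d : Sec D U}
    (hd : IsLocBasis (fun _ : Fin 1 => d)) {V : X.Opens} (h : V ≤ U) (s : Sec D V) :
    ∃ a : Γ(X, V), s = a • res D h d := by
  obtain ⟨a, ha⟩ := (hd V h).2 s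
  refine ⟨a 0, ?_⟩
  rw [← ha, comb_apply, Fin.sum_univ_one]

theorem smul_inj {D : X.Modules} {U : X.Opens} {d : Sec D U}
    (hd : IsLocBasis (fun _ : Fin 1 => d)) {V : X.Opens} (h : V ≤ U) {a b : Γ(X, V)}
    (hab : a • res D h d = b • res D h d) : a = b := by
  have h1 : comb (fun _ : Fin 1 => d) h (fun _ => a) = comb (fun _ : Fin 1 => d) h (fun _ => b) := by
    rw [comb_apply, comb_apply, Fin.sum_univ_one, Fin.sum_univ_one, hab]
  exact congrFun ((hd V h).1 h1) 0

end basis

section fam

variable {Z : Scheme.{u}} {G D : Z.Modules} {m : ℕ}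

/-- `GenAt m s z`: near `z` there are a basis `e` of `G` and a generator `d` of `D` such that
`s (α i) (e j) = δ_ij d`. -/
def GenAt (m : ℕ) {A : Type} (s : A → (G ⟶ D)) (z : Z) : Prop :=
  ∃ (U : Z.Opens) (_ : z ∈ U) (d : Sec D U) (e : Fin m → Sec G U) (α : Fin m → A),
    IsLocBasis (fun _ : Fin 1 => d) ∧ IsLocBasis e ∧
    ∀ i j, appS (s (α i)) U (e j) = if i = j then d else 0

theorem isFinLocFreeOfRank_iff {n : ℕ} {M : Z.Modules} : FlatMod.IsFinLocFreeOfRank n M ↔
    ∀ x : Z, ∃ U : Z.Opens, x ∈ U ∧ ∃ b : Fin n → Sec M U, IsLocBasis b := by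
  simp only [FlatMod.IsFinLocFreeOfRank, nonempty_restrict_iso_iff]

/-- An epimorphism `O^N ⟶ Hom(G, D)` gives a generating family. -/
theorem exists_genFam (hG : FlatMod.IsFinLocFreeOfRank m G) (hD : FlatMod.IsFinLocFreeOfRank 1 D) (N : ℕ)
    (P : FlatMod.freeMod Z N ⟶ homSheaf G D) [Epi P] :
    ∃ s : Fin N → (G ⟶ D), ∀ z : Z, GenAt m s z := by
  classical
  rw [isFinLocFreeOfRank_iff] at hG hD
  let S : Fin N → Sec (homSheaf G D) ⊤ := fun a => appS P ⊤ (freeBasis Z N a)
  refine ⟨fun a => CohqB.HomSheaf.toHom (S a), fun z => ?_⟩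
  have happ : ∀ (a : Fin N) (U : Z.Opens) (g : Sec G U),
      appS (CohqB.HomSheaf.toHom (S a)) U g = cS (S a) le_top g := fun a U g => rfl
  obtain ⟨U₁, hz₁, e₁, he₁⟩ := hG z
  obtain ⟨U₂, hz₂, d₂, hd₂⟩ := hD z
  let U : Z.Opens := U₁ ⊓ U₂
  have hzU : z ∈ U := ⟨hz₁, hz₂⟩
  let e' : Fin m → Sec G U := fun i => res G (inf_le_left : U ≤ U₁) (e₁ i)
  have he' : IsLocBasis e' := he₁.restrict (inf_le_left : U ≤ U₁)
  let d : Sec D U := res D (inf_le_right : U ≤ U₂) (d₂ 0)
  have hd : IsLocBasis (fun _ : Fin 1 => d) := by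
    have := hd₂.restrict (inf_le_right : U ≤ U₂)
    convert this using 2 with i
    rw [Subsingleton.elim i 0]
  obtain ⟨V, hVU, hzV, c', hc'⟩ := exists_lifts P (hsec (N := D) he' d) hzU
  -- coordinates of `s_a (e' j)`
  have hb : ∀ (a : Fin N) (j : Fin m), ∃ b : Γ(Z, U), cS (S a) le_top (e' j) = b • res D le_rfl d :=
    fun a j => exists_smul_eq hd le_rfl _
  choose b hb using hb
  -- coordinates of the lifts
  have hc : ∀ i, ∃ c : Fin N → Γ(Z, V), comb (freeBasis Z N) (le_top : V ≤ ⊤) c = c' i :=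
    fun i => (free_isLocBasis Z N V le_top).2 (c' i)
  choose c hc using hc
  have hrel : ∀ i j, ∑ a, c i a * resO Z hVU (b a j) = if i = j then 1 else 0 := by
    intro i j
    have h1 := congrArg (fun s => ev D e' hVU s j) (hc' i)
    simp only [← hc, appS_comb] at h1
    rw [ev_res_hsec, comb_apply, map_sum, Finset.sum_apply] at h1
    have h2 : ∀ a, ev D e' hVU (c i a • res (homSheaf G D) (le_top : V ≤ ⊤) (S a)) j =
        (c i a * resO Z hVU (b a j)) • res D hVU d := by
      intro a
      rw [map_smul, Pi.smul_apply, ev_apply, cS_res]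
      have h3 := res_cS (le_top : U ≤ ⊤) hVU (S a) (e' j)
      rw [h3, hb, res_self, res_smul, smul_smul]
    have h4 : (Pi.single i (res D hVU d) : Fin m → Sec D V) j =
        (if i = j then (1 : Γ(Z, V)) else 0) • res D hVU d := by
      rw [Pi.single_apply]
      simp only [eq_comm (a := j)]
      split_ifs
      · rw [_root_.one_smul]
      · rw [zero_smul]
    refine smul_inj hd hVU ?_
    rw [← h4, ← h1, Finset.sum_smul]
    exact (Finset.sum_congr rfl fun a _ => h2 a).symm
  -- choose a minor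
  let Bm : Matrix (Fin N) (Fin m) Γ(Z, V) := Matrix.of fun a j => resO Z hVU (b a j)
  let φ : Γ(Z, V) →+* IsLocalRing.ResidueField (Z.presheaf.stalk z) :=
    (IsLocalRing.residue _).comp (Z.presheaf.germ V z hzV).hom
  obtain ⟨α, hα⟩ := exists_submatrix φ (Matrix.of c) Bm (by
    ext i j
    rw [Matrix.mul_apply, Matrix.one_apply, ← hrel]
    rfl)
  set δ : Γ(Z, V) := (Bm.submatrix α id).det with hδ
  have hδu : IsUnit (Z.presheaf.germ V z hzV δ) := by
    by_contra hcon
    refine hα ?_
    change IsLocalRing.residue _ (Z.presheaf.germ V z hzV δ) = 0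
    rw [IsLocalRing.residue_eq_zero_iff]
    exact hcon
  let W : Z.Opens := Z.basicOpen δ
  have hWV : W ≤ V := Z.basicOpen_le δ
  have hzW : z ∈ W := (Z.mem_basicOpen _ _ hzV).2 hδu
  have hWδ : IsUnit (resO Z hWV δ) := Z.toRingedSpace.isUnit_res_basicOpen δ
  let A : Matrix (Fin m) (Fin m) Γ(Z, W) := (Bm.submatrix α id).map (resO Z hWV)
  have hAdet : IsUnit A.det := by
    have : A.det = resO Z hWV δ := by
      rw [hδ, RingHom.map_det]
      rfl
    rw [this]
    exact hWδ
  have hA1 : A * A⁻¹ = 1 := Matrix.mul_nonsing_inv A hAdet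
  have hA2 : A⁻¹ * A = 1 := Matrix.nonsing_inv_mul A hAdet
  have hWU : W ≤ U := hWV.trans hVU
  refine ⟨W, hzW, res D hWU d, fun j => ∑ l, A⁻¹ l j • res G hWU (e' l), α, ?_, ?_, ?_⟩
  · exact hd.restrict hWU
  · exact isLocBasis_matrix (he'.restrict hWU) A⁻¹ A hA2 hA1
  · intro i j
    rw [map_sum]
    have h5 : ∀ l, appS (CohqB.HomSheaf.toHom (S (α i))) W (A⁻¹ l j • res G hWU (e' l)) =
        (A i l * A⁻¹ l j) • res D hWU d := by
      intro l
      rw [map_smul, happ, res_cS (le_top : U ≤ ⊤) hWU (S (α i)) (e' l), hb, res_self, res_smul, smul_smul,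
        mul_comm]
      congr 2
      change resO Z hWU (b (α i) l) = resO Z hWV (resO Z hVU (b (α i) l))
      rw [resO_resO]
    rw [Finset.sum_congr rfl fun l _ => h5 l, ← Finset.sum_smul, ← Matrix.mul_apply, hA1,
      Matrix.one_apply]
    split_ifs
    · rw [_root_.one_smul]
    · rw [zero_smul]

end fam

end Groth.Agent.Vancyc.H678.GenFam
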