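import Groth.Agent.Vancyc.H678.GenUnram
import Mathlib.RingTheory.Unramified.Field
import Mathlib.RingTheory.Artinian.Ring
import Mathlib.RingTheory.LocalProperties.Reduced
import Mathlib.FieldTheory.IntermediateField.Adjoin.Basic
import Mathlib.RingTheory.RegularLocalRing.Defs

/-!
# Generic simple zeros: ring level

`R` a domain of finite type over an algebraically closed field `k` with `dim R = |ι|`; `v l : ι → R` finitely
many vectors.  If the vectors contain the standard basis vectors, and the multiples `x_q e_i` of them by
elements `x_q` generating `Frac R`, then the generic `k`-linear combination of the `v l` has finitely many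
zeros, all of them simple.
-/

set_option autoImplicit false
universe u
open KaehlerDifferential Module

namespace Groth.Agent.Vancyc.H678.GenSimple

section points

variable {k R : Type u} [Field k] [CommRing R] [Algebra k R] [Algebra.FiniteType k R] (I : Ideal R)
  [Algebra.FormallyUnramified k (R ⧸ I)]

include k

theorem isReduced_quotient : IsReduced (R ⧸ I) :=
  Algebra.FormallyUnramified.isReduced_of_field k (R ⧸ I)

theorem finite_quotient : Module.Finite k (R ⧸ I) :=
  Algebra.FormallyUnramified.finite_of_free k (R ⧸ I)

theorem isArtinianRing_quotient : IsArtinianRing (R ⧸ I) :=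
  have := finite_quotient (k := k) I
  IsArtinianRing.of_finite k (R ⧸ I)

theorem finite_primes : {p : PrimeSpectrum R | I ≤ p.asIdeal}.Finite := by
  have := isArtinianRing_quotient (k := k) I
  have h1 : {p : PrimeSpectrum R | I ≤ p.asIdeal} =
      Set.range (PrimeSpectrum.comap (Ideal.Quotient.mk I)) := by
    rw [range_comap_of_surjective _ _ Ideal.Quotient.mk_surjective, Ideal.mk_ker]
    rfl
  rw [h1]
  exact Set.finite_range _

theorem isMaximal_of_le {p : Ideal R} (hp : p.IsPrime) (hI : I ≤ p) : p.IsMaximal := by
  have := isArtinianRing_quotient (k := k) I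
  have h1 : (p.map (Ideal.Quotient.mk I)).IsPrime :=
    Ideal.map_isPrime_of_surjective Ideal.Quotient.mk_surjective (by rwa [Ideal.mk_ker])
  have h2 : (p.map (Ideal.Quotient.mk I)).IsMaximal := inferInstance
  have h3 : (p.map (Ideal.Quotient.mk I)).comap (Ideal.Quotient.mk I) = p := Ideal.comap_map_mk hI
  rw [← h3]
  exact Ideal.comap_isMaximal_of_surjective _ Ideal.Quotient.mk_surjective

theorem exists_notMem_mul_mem {p : Ideal R} (hp : p.IsPrime) (hI : I ≤ p) {x : R} (hx : x ∈ p) :
    ∃ s, s ∉ p ∧ s * x ∈ I := by
  have := isArtinianRing_quotient (k := k) I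
  have := isReduced_quotient (k := k) I
  let q : Ideal (R ⧸ I) := p.map (Ideal.Quotient.mk I)
  have h1 : q.IsPrime :=
    Ideal.map_isPrime_of_surjective Ideal.Quotient.mk_surjective (by rwa [Ideal.mk_ker])
  have h3 : q.comap (Ideal.Quotient.mk I) = p := Ideal.comap_map_mk hI
  have h4 : IsReduced (Localization.AtPrime q) :=
    isReduced_localizationPreserves q.primeCompl (Localization.AtPrime q) inferInstance
  have h5 : IsField (Localization.AtPrime q) := IsArtinianRing.isField_of_isReduced_of_isLocalRing _
  have h6 : algebraMap (R ⧸ I) (Localization.AtPrime q) (Ideal.Quotient.mk I x) = 0 := by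
    have h7 := (IsLocalRing.isField_iff_maximalIdeal_eq.1 h5)
    have h8 : algebraMap (R ⧸ I) (Localization.AtPrime q) (Ideal.Quotient.mk I x) ∈
        IsLocalRing.maximalIdeal (Localization.AtPrime q) := by
      rw [IsLocalization.AtPrime.to_map_mem_maximal_iff (Localization.AtPrime q) q]
      exact Ideal.mem_map_of_mem _ hx
    rw [h7] at h8
    exact h8
  rw [IsLocalization.map_eq_zero_iff q.primeCompl] at h6
  obtain ⟨⟨s, hs⟩, hs'⟩ := h6
  obtain ⟨s, rfl⟩ := Ideal.Quotient.mk_surjective s
  refine ⟨s, fun h => hs (Ideal.mem_map_of_mem _ h), ?_⟩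
  rw [← Ideal.Quotient.eq_zero_iff_mem, map_mul]
  exact hs'

end points

section span

variable {k F : Type u} [Field k] [Field F] [Algebra k F]

theorem span_D_eq_top {κ : Type*} (x : κ → F) (hx : IntermediateField.adjoin k (Set.range x) = ⊤) :
    Submodule.span F (Set.range fun q => D k F (x q)) = ⊤ := by
  set W := Submodule.span F (Set.range fun q => D k F (x q)) with hW
  let K : IntermediateField k F :=
    { carrier := {u | D k F u ∈ W}
      mul_mem' := fun {a b} ha hb => by
        change D k F (a * b) ∈ W
        rw [Derivation.leibniz]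
        exact W.add_mem (W.smul_mem _ hb) (W.smul_mem _ ha)
      one_mem' := by
        change D k F 1 ∈ W
        rw [Derivation.map_one_eq_zero]
        exact W.zero_mem
      add_mem' := fun {a b} ha hb => by
        change D k F (a + b) ∈ W
        rw [map_add]
        exact W.add_mem ha hb
      zero_mem' := by
        change D k F 0 ∈ W
        rw [map_zero]
        exact W.zero_mem
      algebraMap_mem' := fun r => by
        change D k F (algebraMap k F r) ∈ W
        rw [Derivation.map_algebraMap]
        exact W.zero_mem
      inv_mem' := fun a ha => by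
        change D k F a⁻¹ ∈ W
        rw [Derivation.leibniz_inv]
        exact W.smul_mem _ ha }
  have hK : K = ⊤ := by
    rw [eq_top_iff, ← hx, IntermediateField.adjoin_le_iff]
    rintro _ ⟨q, rfl⟩
    exact Submodule.subset_span ⟨q, rfl⟩
  rw [eq_top_iff, ← span_range_derivation k F, Submodule.span_le]
  rintro _ ⟨u, rfl⟩
  have : u ∈ K := by rw [hK]; trivial
  exact this

end span

section main

variable {k R : Type u} [Field k] [PerfectField k] [CommRing R] [IsDomain R] [Algebra k R]
  [Algebra.FiniteType k R] {ι Λ : Type} [Fintype ι] [DecidableEq ι] [Fintype Λ]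

theorem exists_poly (hdim : ringKrullDim R = Fintype.card ι)
    (F : Type u) [Field F] [Algebra R F] [IsFractionRing R F] [Algebra k F] [IsScalarTower k R F]
    (v : Λ → ι → R) (σ : ι → Λ) (hσ : ∀ i, v (σ i) = Pi.single i 1) {κ : Type*} (x : κ → R)
    (hx : ∀ q i, ∃ l, v l = Pi.single i (x q))
    (hgen : IntermediateField.adjoin k (Set.range fun q => algebraMap R F (x q)) = ⊤) :
    ∃ h : MvPolynomial Λ k, h ≠ 0 ∧ ∀ c : Λ → k, MvPolynomial.eval c h ≠ 0 →
      Algebra.FormallyUnramified k (R ⧸ Ideal.span (Set.range fun i : ι =>
        ∑ l, algebraMap k R (c l) * v l i)) := by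
  classical
  have hσi : Function.Injective σ := by
    intro i j hij
    have h1 : (Pi.single i (1 : R) : ι → R) = Pi.single j 1 := by rw [← hσ, ← hσ, hij]
    by_contra hne
    have h2 := congrFun h1 i
    rw [Pi.single_eq_same, Pi.single_eq_of_ne hne] at h2
    exact one_ne_zero h2
  let β := {l : Λ // l ∉ Set.range σ}
  let e : ι ⊕ β ≃ Λ := (Equiv.sumCongr (Equiv.ofInjective σ hσi) (Equiv.refl _)).trans
    (Equiv.Set.sumCompl (Set.range σ))
  have he1 : ∀ i, e (Sum.inl i) = σ i := fun i => rfl
  have he2 : ∀ b : β, e (Sum.inr b) = b.1 := fun b => rfl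
  have hspan : Submodule.span F (Set.range fun (b : β) (i : ι) =>
      D k F (algebraMap R F (v b.1 i))) = ⊤ := by
    set W := Submodule.span F (Set.range fun (b : β) (i : ι) => D k F (algebraMap R F (v b.1 i)))
      with hW
    have h1 : ∀ q i, (Pi.single i (D k F (algebraMap R F (x q))) : ι → Ω[F⁄k]) ∈ W := by
      intro q i
      obtain ⟨l, hl⟩ := hx q i
      by_cases hlσ : l ∈ Set.range σ
      · obtain ⟨j, rfl⟩ := hlσ
        rw [hσ] at hl
        have h2 := congrFun hl i
        rw [Pi.single_eq_same] at h2
        have h3 : D k F (algebraMap R F (x q)) = 0 := by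
          rw [← h2]
          by_cases hji : i = j
          · subst hji
            rw [Pi.single_eq_same, map_one, Derivation.map_one_eq_zero]
          · rw [Pi.single_eq_of_ne hji, map_zero, map_zero]
        rw [h3, Pi.single_zero]
        exact W.zero_mem
      · have h4 : (Pi.single i (D k F (algebraMap R F (x q))) : ι → Ω[F⁄k]) =
            fun i' => D k F (algebraMap R F (v l i')) := by
          funext i'
          rw [hl]
          by_cases hi : i' = i
          · subst hi
            rw [Pi.single_eq_same, Pi.single_eq_same]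
          · rw [Pi.single_eq_of_ne hi, Pi.single_eq_of_ne hi, map_zero, map_zero]
        rw [h4]
        exact Submodule.subset_span ⟨⟨l, hlσ⟩, rfl⟩
    have h2 : ∀ (i : ι) (ω : Ω[F⁄k]), (Pi.single i ω : ι → Ω[F⁄k]) ∈ W := by
      intro i ω
      have h3 : ω ∈ Submodule.span F (Set.range fun q => D k F (algebraMap R F (x q))) := by
        rw [span_D_eq_top _ hgen]
        trivial
      induction h3 using Submodule.span_induction with
      | mem y hy =>
        obtain ⟨q, rfl⟩ := hy
        exact h1 q i
      | zero => rw [Pi.single_zero]; exact W.zero_mem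
      | add y z _ _ hy hz => rw [Pi.single_add]; exact W.add_mem hy hz
      | smul a y _ hy => rw [Pi.single_smul]; exact W.smul_mem _ hy
    rw [eq_top_iff]
    intro ω _
    rw [← Finset.univ_sum_single ω]
    exact W.sum_mem fun i _ => h2 i _
  obtain ⟨h, hh0, hh⟩ := GenUnram.exists_poly (k := k) (fun (b : β) => v b.1) hdim F hspan
  refine ⟨MvPolynomial.rename e h, ?_, fun c hc => ?_⟩
  · rw [Ne, map_eq_zero_iff _ (MvPolynomial.rename_injective e e.injective)]
    exact hh0
  · rw [MvPolynomial.eval_rename] at hc
    have h1 := hh (c ∘ e) hc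
    have h2 : (fun i : ι => algebraMap k R ((c ∘ e) (Sum.inl i)) +
        ∑ b : β, algebraMap k R ((c ∘ e) (Sum.inr b)) * v b.1 i) =
        fun i => ∑ l, algebraMap k R (c l) * v l i := by
      funext i
      rw [← Equiv.sum_comp e, Fintype.sum_sum_type]
      congr 1
      · simp only [he1, hσ, Function.comp_apply]
        rw [Finset.sum_eq_single i]
        · rw [Pi.single_eq_same, mul_one]
        · intro j _ hj
          rw [Pi.single_eq_of_ne (Ne.symm hj), mul_zero]
        · intro h; exact absurd (Finset.mem_univ i) h
    rw [h2] at h1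
    exact h1

end main

section local_ring

variable {k R : Type u} [Field k] [CommRing R] [IsDomain R] [Algebra k R] [Algebra.FiniteType k R]
  {ι : Type*} [Fintype ι] (f : ι → R) [Algebra.FormallyUnramified k (R ⧸ Ideal.span (Set.range f))]

include k

/-- At a prime containing the `f i` they generate the maximal ideal, which is the maximal ideal of a
regular local ring. -/
theorem regular_and_span_eq (hdim : ringKrullDim R = Fintype.card ι) (q : Ideal R) [hq : q.IsPrime]
    (hI : Ideal.span (Set.range f) ≤ q) (S : Type u) [CommRing S] [IsLocalRing S] [Algebra R S]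
    [IsLocalization.AtPrime S q] :
    IsRegularLocalRing S ∧
      Ideal.span (Set.range fun i => algebraMap R S (f i)) = IsLocalRing.maximalIdeal S := by
  classical
  have h1 : Ideal.span (Set.range fun i => algebraMap R S (f i)) = IsLocalRing.maximalIdeal S := by
    apply le_antisymm
    · rw [Ideal.span_le]
      rintro _ ⟨i, rfl⟩
      rw [SetLike.mem_coe, IsLocalization.AtPrime.to_map_mem_maximal_iff S q]
      exact hI (Ideal.subset_span ⟨i, rfl⟩)
    · rw [← IsLocalization.AtPrime.map_eq_maximalIdeal q S, Ideal.map_le_iff_le_comap]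
      intro x hx
      obtain ⟨s, hs, hsx⟩ := exists_notMem_mul_mem (k := k) (Ideal.span (Set.range f)) hq hI hx
      have h2 : IsUnit (algebraMap R S s) := IsLocalization.map_units S (⟨s, hs⟩ : q.primeCompl)
      have h3 : algebraMap R S (s * x) ∈ Ideal.span (Set.range fun i => algebraMap R S (f i)) := by
        have h4 := Ideal.mem_map_of_mem (algebraMap R S) hsx
        rw [Ideal.map_span, ← Set.range_comp] at h4
        exact h4
      rw [map_mul] at h3
      rw [Ideal.mem_comap]
      exact (Ideal.unit_mul_mem_iff_mem _ h2).1 h3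
  refine ⟨?_, h1⟩
  have hN : IsNoetherianRing R := Algebra.FiniteType.isNoetherianRing k R
  have hNS : IsNoetherianRing S := IsLocalization.isNoetherianRing q.primeCompl S inferInstance
  have hmax : q.IsMaximal := isMaximal_of_le (k := k) (Ideal.span (Set.range f)) hq hI
  apply IsRegularLocalRing.of_spanFinrank_maximalIdeal_le
  rw [IsLocalization.AtPrime.ringKrullDim_eq_height q S,
    CalgC.DimFT.height_eq_ringKrullDim_of_isMaximal k R q, hdim, ← h1]
  have h5 := Submodule.spanFinrank_span_le_ncard_of_finite (R := S)
    (Set.finite_range fun i => algebraMap R S (f i))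
  have h6 : (Set.range fun i => algebraMap R S (f i)).ncard ≤ Fintype.card ι := by
    rw [← Set.image_univ]
    refine (Set.ncard_image_le Set.finite_univ).trans ?_
    rw [Set.ncard_univ, Nat.card_eq_fintype_card]
  exact_mod_cast h5.trans h6

omit k in
omit [Field k] [IsDomain R] [Algebra k R] [Algebra.FiniteType k R] [Fintype ι]
  [Algebra.FormallyUnramified k (R ⧸ Ideal.span (Set.range f))] in
theorem span_eq_top (q : Ideal R) [hq : q.IsPrime]
    (hI : ¬ Ideal.span (Set.range f) ≤ q) (S : Type u) [CommRing S] [Algebra R S]
    [IsLocalization.AtPrime S q] :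
    Ideal.span (Set.range fun i => algebraMap R S (f i)) = ⊤ := by
  rw [Ideal.span_le, Set.range_subset_iff] at hI
  push Not at hI
  obtain ⟨i, hi⟩ := hI
  have h2 : IsUnit (algebraMap R S (f i)) := IsLocalization.map_units S (⟨f i, hi⟩ : q.primeCompl)
  exact Ideal.eq_top_of_isUnit_mem _ (Ideal.subset_span ⟨i, rfl⟩) h2

end local_ring

end Groth.Agent.Vancyc.H678.GenSimple
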