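import Mathlib.RingTheory.Kaehler.Basic
import Mathlib.RingTheory.Etale.Kaehler
import Mathlib.LinearAlgebra.Matrix.Adjugate
import Mathlib.LinearAlgebra.Matrix.Nondegenerate
import Mathlib.RingTheory.Localization.FractionRing
import Mathlib.RingTheory.MvPolynomial.Basic
import Mathlib.RingTheory.Unramified.Basic
import Groth.Agent.CalgC.DimFT
import Groth.Agent.CurvesB.SmoothCurveAlg

/-!
# Generic unramifiedness of the universal zero scheme

`R` a domain over a field `k`, `w b : ι → R` finitely many vectors.  The universal zero scheme of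
`c_i + ∑ c_b w_b,i` is `Spec R[y_b]` over `Spec k[c_i, c_b]`.  If the `d w_b` span `Ω_{Frac R/k} ^ ι` and
`|ι| = dim Ω_{Frac R/k}` then it is generically unramified over `Spec k[c_i, c_b]`.
-/

set_option autoImplicit false
universe u
open KaehlerDifferential Module

namespace Groth.Agent.Vancyc.H678.GenUnram

section field

variable {k A F F' : Type u} [Field k] [CommRing A] [Field F] [Field F'] [Algebra k A] [Algebra k F]
  [Algebra A F'] [Algebra k F'] [Algebra F F'] [IsScalarTower k A F'] [IsScalarTower k F F']
  {ι β : Type} [Fintype ι] [DecidableEq ι] [Fintype β]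

theorem D_eq_zero (bas : Basis ι F Ω[F⁄k]) (w : β → ι → F) (y : β → A) (a : ι → A)
    (hy : ∀ i, ∑ b, algebraMap A F' (y b) * algebraMap F F' (w b i) = algebraMap A F' (a i))
    (hdet : (Matrix.of fun i j => ∑ b, algebraMap A F' (y b) *
      algebraMap F F' (bas.repr (D k F (w b i)) j)).det ≠ 0) (u : F) :
    D A F' (algebraMap F F' u) = 0 := by
  have hcomm : SMulCommClass A F F' := ⟨fun x y z => by
    rw [Algebra.smul_def, Algebra.smul_def, Algebra.smul_def, Algebra.smul_def, mul_left_comm]⟩
  let L : Ω[F⁄k] →ₗ[F] Ω[F'⁄A] := KaehlerDifferential.map k A F F'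
  have hL : ∀ u : F, L (D k F u) = D A F' (algebraMap F F' u) := fun u => map_D k A F F' u
  have hLj : ∀ v : Ω[F⁄k], L v = ∑ j, algebraMap F F' (bas.repr v j) • L (bas j) := by
    intro v
    conv_lhs => rw [← bas.sum_repr v]
    rw [map_sum]
    refine Finset.sum_congr rfl fun j _ => ?_
    rw [map_smul, algebraMap_smul]
  set T : Matrix ι ι F' := Matrix.of fun i j => ∑ b, algebraMap A F' (y b) *
      algebraMap F F' (bas.repr (D k F (w b i)) j) with hT
  have hrel : ∀ i, ∑ j, T i j • L (bas j) = 0 := by
    intro i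
    have h1 : D A F' (∑ b, algebraMap A F' (y b) * algebraMap F F' (w b i)) = 0 := by
      rw [hy, Derivation.map_algebraMap]
    rw [map_sum] at h1
    have h2 : ∀ b, D A F' (algebraMap A F' (y b) * algebraMap F F' (w b i)) =
        ∑ j, (algebraMap A F' (y b) * algebraMap F F' (bas.repr (D k F (w b i)) j)) • L (bas j) := by
      intro b
      rw [Derivation.leibniz, Derivation.map_algebraMap, smul_zero, add_zero, ← hL, hLj,
        Finset.smul_sum]
      refine Finset.sum_congr rfl fun j _ => ?_
      rw [mul_smul]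
    rw [← h1]
    simp only [h2]
    rw [Finset.sum_comm]
    refine Finset.sum_congr rfl fun j _ => ?_
    rw [hT, Matrix.of_apply, Finset.sum_smul]
  have hzero : ∀ l, L (bas l) = 0 := by
    intro l
    have h1 : ∑ i, T.adjugate l i • ∑ j, T i j • L (bas j) = T.det • L (bas l) := by
      simp only [Finset.smul_sum, smul_smul]
      rw [Finset.sum_comm]
      simp only [← Finset.sum_smul]
      have : ∀ j, ∑ i, T.adjugate l i * T i j = if l = j then T.det else 0 := by
        intro j
        have := congrFun (congrFun T.adjugate_mul l) j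
        rw [Matrix.mul_apply, Matrix.smul_apply, Matrix.one_apply, smul_ite, smul_eq_mul, mul_one,
          smul_zero] at this
        exact this
      simp only [this, ite_smul, zero_smul]
      rw [Finset.sum_ite_eq Finset.univ l (fun j => T.det • L (bas j))]
      simp
    simp only [hrel, smul_zero, Finset.sum_const_zero] at h1
    exact (smul_eq_zero.1 h1.symm).resolve_left hdet
  rw [← hL, hLj]
  simp [hzero]

end field

section det

variable {k R F F' : Type u} [Field k] [CommRing R] [IsDomain R] [Algebra k R] [Field F] [Algebra R F]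
  [IsFractionRing R F] [Algebra k F] [IsScalarTower k R F] {ι β : Type} [Fintype ι] [DecidableEq ι]
  [Fintype β] [Field F'] [Algebra (MvPolynomial β R) F'] [IsFractionRing (MvPolynomial β R) F']
  [Algebra F F']

theorem det_ne_zero
    (hFF' : ∀ r : R, algebraMap F F' (algebraMap R F r) =
      algebraMap (MvPolynomial β R) F' (MvPolynomial.C r))
    (c : β → ι → ι → F) (y0 : β → F) (h0 : ∀ i j, ∑ b, y0 b * c b i j = if i = j then 1 else 0) :
    (Matrix.of fun i j => ∑ b, algebraMap (MvPolynomial β R) F' (MvPolynomial.X b) *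
      algebraMap F F' (c b i j)).det ≠ 0 := by
  intro hdet
  obtain ⟨r, hr⟩ := IsLocalization.exist_integer_multiples_of_finite (nonZeroDivisors R)
    (fun x : β × ι × ι => c x.1 x.2.1 x.2.2)
  choose c' hc' using hr
  have hr0 : algebraMap R F r ≠ 0 := by
    rw [Ne, map_eq_zero_iff _ (IsFractionRing.injective R F)]
    exact nonZeroDivisors.coe_ne_zero r
  let T1 : Matrix ι ι (MvPolynomial β R) := Matrix.of fun i j =>
    ∑ b, MvPolynomial.X b * MvPolynomial.C (c' (b, i, j))
  have hT1e : ∀ i j, T1 i j = ∑ b, MvPolynomial.X b * MvPolynomial.C (c' (b, i, j)) := fun _ _ => rfl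
  have hT1 : (algebraMap (MvPolynomial β R) F').mapMatrix T1 =
      (algebraMap F F' (algebraMap R F r)) • (Matrix.of fun i j =>
        ∑ b, algebraMap (MvPolynomial β R) F' (MvPolynomial.X b) * algebraMap F F' (c b i j)) := by
    ext i j
    rw [RingHom.mapMatrix_apply, Matrix.map_apply, hT1e, Matrix.smul_apply,
      Matrix.of_apply, map_sum, smul_eq_mul, Finset.mul_sum]
    refine Finset.sum_congr rfl fun b _ => ?_
    rw [map_mul, ← hFF', hc', Algebra.smul_def, map_mul]
    ring
  have h1 : T1.det = 0 := by
    apply IsFractionRing.injective (MvPolynomial β R) F'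
    rw [map_zero, RingHom.map_det, hT1, Matrix.det_smul, hdet, mul_zero]
  have h2 : (MvPolynomial.eval₂Hom (algebraMap R F) y0).mapMatrix T1 =
      (algebraMap R F r) • (1 : Matrix ι ι F) := by
    ext i j
    rw [RingHom.mapMatrix_apply, Matrix.map_apply, hT1e, Matrix.smul_apply,
      Matrix.one_apply, map_sum, smul_eq_mul, ← h0, Finset.mul_sum]
    refine Finset.sum_congr rfl fun b _ => ?_
    rw [map_mul, MvPolynomial.coe_eval₂Hom, MvPolynomial.eval₂_X, MvPolynomial.eval₂_C, hc',
      Algebra.smul_def]
    ring
  have h3 := congrArg (MvPolynomial.eval₂Hom (algebraMap R F) y0) h1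
  rw [map_zero, RingHom.map_det, h2, Matrix.det_smul, Matrix.det_one, mul_one] at h3
  exact pow_ne_zero _ hr0 h3

end det

section univ

variable {k R : Type u} [Field k] [CommRing R] [Algebra k R] {ι β : Type} [Fintype β]
  (w : β → ι → R)

/-- The universal zero scheme `Spec R[y] ⟶ Spec k[c, y]`, `c_i = - ∑ y_b w_b,i`. -/
noncomputable def univ : MvPolynomial (ι ⊕ β) k →ₐ[k] MvPolynomial β R :=
  MvPolynomial.aeval (Sum.elim (fun i => - ∑ b, MvPolynomial.X b * MvPolynomial.C (w b i))
    MvPolynomial.X)

theorem univ_inl (i : ι) : univ (k := k) w (MvPolynomial.X (Sum.inl i)) =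
    - ∑ b, MvPolynomial.X b * MvPolynomial.C (w b i) := by
  rw [univ, MvPolynomial.aeval_X, Sum.elim_inl]

theorem univ_inr (b : β) : univ (k := k) w (MvPolynomial.X (Sum.inr b)) = MvPolynomial.X b := by
  rw [univ, MvPolynomial.aeval_X, Sum.elim_inr]

variable [IsDomain R] [Fintype ι]

/-- The generic point of `Spec R[y]` is unramified over `Spec k[c, y]`. -/
theorem subsingleton_kaehler (F : Type u) [Field F] [Algebra R F] [IsFractionRing R F] [Algebra k F]
    [IsScalarTower k R F] (hrank : Module.finrank F Ω[F⁄k] = Fintype.card ι) [Module.Finite F Ω[F⁄k]]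
    (hspan : Submodule.span F (Set.range fun (b : β) (i : ι) => D k F (algebraMap R F (w b i))) = ⊤)
    (F' : Type u) [Field F'] [Algebra (MvPolynomial β R) F'] [IsFractionRing (MvPolynomial β R) F']
    [Algebra (MvPolynomial (ι ⊕ β) k) F']
    (hA : algebraMap (MvPolynomial (ι ⊕ β) k) F' =
      (algebraMap (MvPolynomial β R) F').comp (univ (k := k) w).toRingHom) :
    Subsingleton Ω[F'⁄MvPolynomial (ι ⊕ β) k] := by
  classical
  let B := MvPolynomial β R
  let A := MvPolynomial (ι ⊕ β) k
  have hinj : Function.Injective ((algebraMap B F').comp (MvPolynomial.C : R →+* B)) :=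
    (IsFractionRing.injective B F').comp (MvPolynomial.C_injective β R)
  let iF : Algebra F F' := (IsFractionRing.lift (K := F) hinj).toAlgebra
  have hFF' : ∀ r : R, algebraMap F F' (algebraMap R F r) = algebraMap B F' (MvPolynomial.C r) :=
    fun r => IsFractionRing.lift_algebraMap hinj r
  let ik : Algebra k F' := ((algebraMap B F').comp (algebraMap k B)).toAlgebra
  have t1 : IsScalarTower k A F' := .of_algebraMap_eq fun x => by
    rw [hA]
    change algebraMap B F' (algebraMap k B x) = algebraMap B F' (univ (k := k) w (algebraMap k A x))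
    rw [AlgHom.commutes]
  have t2 : IsScalarTower k F F' := .of_algebraMap_eq fun x => by
    rw [IsScalarTower.algebraMap_apply k R F, hFF']
    rfl
  let bas : Basis ι F Ω[F⁄k] := (Module.finBasisOfFinrankEq F Ω[F⁄k] hrank).reindex
    (Fintype.equivFin ι).symm
  have hA' : ∀ x : A, algebraMap A F' x = algebraMap B F' (univ (k := k) w x) := fun x => by
    rw [hA]; rfl
  obtain ⟨y0, hy0⟩ := (Submodule.mem_span_range_iff_exists_fun F).1
    (show (fun i => bas i) ∈ Submodule.span F (Set.range fun (b : β) (i : ι) =>
      D k F (algebraMap R F (w b i))) by rw [hspan]; trivial)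
  have hdet := det_ne_zero (F' := F') hFF'
    (fun b i j => bas.repr (D k F (algebraMap R F (w b i))) j) y0 (by
      intro i j
      have h1 := congrFun hy0 i
      rw [Finset.sum_apply] at h1
      have h2 := congrArg (fun v => bas.repr v j) h1
      simp only [map_sum, Finsupp.finsetSum_apply, Basis.repr_self, Finsupp.single_apply] at h2
      rw [← h2]
      refine Finset.sum_congr rfl fun b _ => ?_
      rw [Pi.smul_apply, map_smul, Finsupp.smul_apply, smul_eq_mul])
  have hD := D_eq_zero (k := k) (A := A) (F := F) (F' := F') bas (fun b i => algebraMap R F (w b i))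
    (fun b => MvPolynomial.X (Sum.inr b)) (fun i => - MvPolynomial.X (Sum.inl i)) (by
      intro i
      rw [hA', map_neg, univ_inl, neg_neg, map_sum]
      refine Finset.sum_congr rfl fun b _ => ?_
      rw [hA', univ_inr, hFF', map_mul]) (by
      simp only [hA', univ_inr]
      exact hdet)
  have hDB : ∀ p : B, D A F' (algebraMap B F' p) = 0 := by
    intro p
    induction p using MvPolynomial.induction_on with
    | C r => rw [← hFF']; exact hD _
    | add p q hp hq => rw [map_add, map_add, hp, hq, add_zero]
    | mul_X p b hp =>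
      rw [map_mul, Derivation.leibniz, hp, smul_zero, add_zero]
      have : algebraMap B F' (MvPolynomial.X b) = algebraMap A F' (MvPolynomial.X (Sum.inr b)) := by
        rw [hA', univ_inr]
      rw [this, Derivation.map_algebraMap, smul_zero]
  have hall : ∀ z : F', D A F' z = 0 := by
    intro z
    obtain ⟨p, q, hq, rfl⟩ := IsFractionRing.div_surjective (A := B) z
    have hq0 : algebraMap B F' q ≠ 0 := by
      rw [Ne, map_eq_zero_iff _ (IsFractionRing.injective B F')]
      exact nonZeroDivisors.ne_zero hq
    have h1 : D A F' (algebraMap B F' q * (algebraMap B F' p / algebraMap B F' q)) = 0 := by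
      rw [mul_div_cancel₀ _ hq0]
      exact hDB p
    rw [Derivation.leibniz, hDB q, smul_zero, add_zero] at h1
    exact (smul_eq_zero.1 h1).resolve_left hq0
  rw [← Submodule.subsingleton_iff F', ← subsingleton_iff_bot_eq_top, ← span_range_derivation A F']
  symm
  rw [Submodule.span_eq_bot]
  rintro _ ⟨z, rfl⟩
  exact hall z

end univ

section dim

/-- A nonzero element of the source mapping into the ideal generated by a given nonzero element, when
the dimension of the target is at most the dimension of the source. -/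
theorem exists_dvd (k : Type u) [Field k] {A B : Type u} [CommRing A] [IsDomain A] [CommRing B]
    [IsDomain B] [Algebra k A] [Algebra k B] [Algebra.FiniteType k A] [Algebra.FiniteType k B]
    (φ : A →ₐ[k] B) (hdim : ringKrullDim B ≤ ringKrullDim A) (g : B) (hg : g ≠ 0) :
    ∃ h : A, h ≠ 0 ∧ g ∣ φ h := by
  by_contra hcon
  push Not at hcon
  obtain ⟨Q, hQ, hgQ, hQd⟩ := Ideal.exists_le_prime_disjoint (Ideal.span {g})
    ((nonZeroDivisors A).map φ) (by
      rw [Set.disjoint_left]
      rintro _ hx ⟨h, hh, rfl⟩
      exact hcon h (nonZeroDivisors.ne_zero hh) (Ideal.mem_span_singleton.1 hx))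
  let ψ : A →ₐ[k] B ⧸ Q := (Ideal.Quotient.mkₐ k Q).comp φ
  have hψ : Function.Injective ψ := by
    rw [injective_iff_map_eq_zero]
    intro a ha
    by_contra ha0
    refine (Set.disjoint_left.1 hQd) (Ideal.Quotient.eq_zero_iff_mem.1 ha)
      ⟨a, mem_nonZeroDivisors_of_ne_zero ha0, rfl⟩
  obtain ⟨dA, hA1, hA2, -⟩ := CalgC.DimFT.exists_dim k A
  obtain ⟨dQ, hQ1, hQ2, -⟩ := CalgC.DimFT.exists_dim k (B ⧸ Q)
  obtain ⟨dB, hB1, hB2, -⟩ := CalgC.DimFT.exists_dim k B
  have h1 : dA ≤ dQ := by
    have := trdeg_le_of_injective ψ hψ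
    rw [hA2, hQ2] at this
    exact_mod_cast this
  have h2 := CalgC.DimFT.height_add_ringKrullDim_quotient k B Q
  rw [hQ1, hB1] at h2
  have h3 : 1 ≤ Q.height := by
    rw [Order.one_le_iff_ne_zero, Ne, Ideal.height_eq_zero_iff_eq_bot]
    rintro rfl
    exact hg (hgQ (Ideal.mem_span_singleton_self g))
  rw [hB1, hA1] at hdim
  have h4 : (dB : WithBot ℕ∞) ≤ dQ := hdim.trans (by exact_mod_cast h1)
  have h5 : ((1 : ℕ∞) : WithBot ℕ∞) + dQ ≤ dB := by
    rw [← h2]
    exact add_le_add (by exact_mod_cast h3) le_rfl
  have h6 : 1 + dQ ≤ dB := by exact_mod_cast h5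
  have h7 : dB ≤ dQ := by exact_mod_cast h4
  omega

end dim

section special

variable {k R : Type u} [Field k] [CommRing R] [Algebra k R] {ι β : Type} [Fintype β]
  (w : β → ι → R)

/-- Specialisation: the zero scheme of `c_i + ∑ c_b w_b,i` is unramified over `k` when the universal one
is killed by an element nonzero at `c`. -/
theorem unramified_of_eval (h : MvPolynomial (ι ⊕ β) k)
    (hh : letI := (univ (k := k) w).toRingHom.toAlgebra
      ∀ x : Ω[MvPolynomial β R⁄MvPolynomial (ι ⊕ β) k], univ (k := k) w h • x = 0)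
    (c : ι ⊕ β → k) (hc : MvPolynomial.eval c h ≠ 0) :
    Algebra.FormallyUnramified k (R ⧸ Ideal.span (Set.range fun i : ι =>
      algebraMap k R (c (Sum.inl i)) + ∑ b, algebraMap k R (c (Sum.inr b)) * w b i)) := by
  let A := MvPolynomial (ι ⊕ β) k
  let B := MvPolynomial β R
  set I : Ideal R := Ideal.span (Set.range fun i : ι =>
      algebraMap k R (c (Sum.inl i)) + ∑ b, algebraMap k R (c (Sum.inr b)) * w b i) with hI
  let C := R ⧸ I
  let iAB : Algebra A B := (univ (k := k) w).toRingHom.toAlgebra
  let iAk : Algebra A k := (MvPolynomial.eval c).toAlgebra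
  let iAC : Algebra A C := ((algebraMap k C).comp (MvPolynomial.eval c)).toAlgebra
  let iBC : Algebra B C := (MvPolynomial.eval₂Hom (Ideal.Quotient.mk I)
    (fun b => algebraMap k C (c (Sum.inr b)))).toAlgebra
  have t1 : IsScalarTower A k C := .of_algebraMap_eq fun _ => rfl
  have hBC : ∀ p : B, algebraMap B C p = MvPolynomial.eval₂Hom (Ideal.Quotient.mk I)
    (fun b => algebraMap k C (c (Sum.inr b))) p := fun _ => rfl
  have hAB : ∀ p : A, algebraMap A B p = univ (k := k) w p := fun _ => rfl
  have hkey : ((MvPolynomial.eval₂Hom (Ideal.Quotient.mk I)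
      (fun b => algebraMap k C (c (Sum.inr b)))).comp (univ (k := k) w).toRingHom : A →+* C) =
      (algebraMap k C).comp (MvPolynomial.eval c) := by
    apply MvPolynomial.ringHom_ext
    · intro r
      have h1 : (univ (k := k) w) (MvPolynomial.C r) = MvPolynomial.C (algebraMap k R r) :=
        (univ (k := k) w).commutes r
      change (MvPolynomial.eval₂Hom (Ideal.Quotient.mk I)
        (fun b => algebraMap k C (c (Sum.inr b)))) ((univ (k := k) w) (MvPolynomial.C r)) = _
      rw [h1, MvPolynomial.coe_eval₂Hom, MvPolynomial.eval₂_C, RingHom.comp_apply,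
        MvPolynomial.eval_C]
      rfl
    · intro i
      change (MvPolynomial.eval₂Hom (Ideal.Quotient.mk I)
        (fun b => algebraMap k C (c (Sum.inr b)))) ((univ (k := k) w) (MvPolynomial.X i)) = _
      rw [RingHom.comp_apply, MvPolynomial.eval_X]
      rcases i with i | b
      · rw [univ_inl, map_neg, map_sum]
        have h2 : Ideal.Quotient.mk I (algebraMap k R (c (Sum.inl i)) +
            ∑ b, algebraMap k R (c (Sum.inr b)) * w b i) = 0 :=
          Ideal.Quotient.eq_zero_iff_mem.2 (Ideal.subset_span ⟨i, rfl⟩)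
        rw [map_add, map_sum] at h2
        rw [neg_eq_iff_add_eq_zero, add_comm]
        refine Eq.trans ?_ h2
        congr 1
        refine Finset.sum_congr rfl fun b _ => ?_
        rw [map_mul, MvPolynomial.coe_eval₂Hom, MvPolynomial.eval₂_X, MvPolynomial.eval₂_C, map_mul]
        rfl
      · rw [univ_inr, MvPolynomial.coe_eval₂Hom, MvPolynomial.eval₂_X]
  have t2 : IsScalarTower A B C := .of_algebraMap_eq fun x => by
    rw [hAB, hBC]
    exact (RingHom.congr_fun hkey x).symm
  have hsurj : Function.Surjective (algebraMap B C) := by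
    intro x
    obtain ⟨r, rfl⟩ := Ideal.Quotient.mk_surjective x
    refine ⟨MvPolynomial.C r, ?_⟩
    rw [hBC, MvPolynomial.coe_eval₂Hom, MvPolynomial.eval₂_C]
  refine ⟨subsingleton_of_forall_eq 0 fun z => ?_⟩
  obtain ⟨y, rfl⟩ := KaehlerDifferential.map_surjective A k C z
  obtain ⟨x, rfl⟩ := KaehlerDifferential.map_surjective_of_surjective A A B C hsurj y
  have h1 := congrArg (fun v => KaehlerDifferential.map A k C C (KaehlerDifferential.map A A B C v)) (hh x)
  simp only [map_zero] at h1
  rw [map_smul, ← algebraMap_smul C (univ (k := k) w h), map_smul] at h1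
  have h2 : algebraMap B C (univ (k := k) w h) = algebraMap k C (MvPolynomial.eval c h) :=
    RingHom.congr_fun hkey h
  rw [h2, algebraMap_smul] at h1
  exact (smul_eq_zero.1 h1).resolve_left hc

end special

section main

variable {k R : Type u} [Field k] [PerfectField k] [CommRing R] [IsDomain R] [Algebra k R]
  [Algebra.FiniteType k R] {ι β : Type} [Fintype ι] [Fintype β] (w : β → ι → R)

theorem exists_killing (F : Type u) [Field F] [Algebra R F] [IsFractionRing R F] [Algebra k F]
    [IsScalarTower k R F] (hrank : Module.finrank F Ω[F⁄k] = Fintype.card ι) [Module.Finite F Ω[F⁄k]]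
    (hspan : Submodule.span F (Set.range fun (b : β) (i : ι) => D k F (algebraMap R F (w b i))) = ⊤)
    (F' : Type u) [Field F'] [Algebra (MvPolynomial β R) F'] [IsFractionRing (MvPolynomial β R) F'] :
    ∃ g : MvPolynomial β R, g ≠ 0 ∧ letI := (univ (k := k) w).toRingHom.toAlgebra
      ∀ x : Ω[MvPolynomial β R⁄MvPolynomial (ι ⊕ β) k], g • x = 0 := by
  classical
  let A := MvPolynomial (ι ⊕ β) k
  let B := MvPolynomial β R
  let iAB : Algebra A B := (univ (k := k) w).toRingHom.toAlgebra
  let iAF' : Algebra A F' := ((algebraMap B F').comp (univ (k := k) w).toRingHom).toAlgebra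
  have t1 : IsScalarTower A B F' := .of_algebraMap_eq fun _ => rfl
  have t2 : IsScalarTower k A B := .of_algebraMap_eq fun x => ((univ (k := k) w).commutes x).symm
  have hsub := subsingleton_kaehler w F hrank hspan F' rfl
  have hft : Algebra.FiniteType k B := Algebra.FiniteType.trans (R := k) (S := R) (A := B) ‹_› inferInstance
  have hft' : Algebra.FiniteType A B := .of_restrictScalars_finiteType k A B
  have hfin : Module.Finite B Ω[B⁄A] := inferInstance
  rw [IsLocalizedModule.subsingleton_iff (nonZeroDivisors B) (KaehlerDifferential.map A A B F')] at hsub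
  obtain ⟨s, hs⟩ := hfin
  choose r hr hr0 using hsub
  refine ⟨∏ x ∈ s, r x, Finset.prod_ne_zero_iff.2 fun x _ => nonZeroDivisors.ne_zero (hr x), ?_⟩
  intro x
  have hx : x ∈ Submodule.span B (s : Set Ω[B⁄A]) := by rw [hs]; trivial
  induction hx using Submodule.span_induction with
  | mem x hx =>
    rw [← Finset.prod_erase_mul s r hx, mul_smul, hr0, smul_zero]
  | zero => rw [smul_zero]
  | add x y _ _ hx hy => rw [smul_add, hx, hy, add_zero]
  | smul a x _ hx => rw [smul_comm, hx, smul_zero]

theorem exists_poly (hdim : ringKrullDim R = Fintype.card ι)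
    (F : Type u) [Field F] [Algebra R F] [IsFractionRing R F] [Algebra k F] [IsScalarTower k R F]
    (hspan : Submodule.span F (Set.range fun (b : β) (i : ι) => D k F (algebraMap R F (w b i))) = ⊤) :
    ∃ h : MvPolynomial (ι ⊕ β) k, h ≠ 0 ∧ ∀ c : ι ⊕ β → k, MvPolynomial.eval c h ≠ 0 →
      Algebra.FormallyUnramified k (R ⧸ Ideal.span (Set.range fun i : ι =>
        algebraMap k R (c (Sum.inl i)) + ∑ b, algebraMap k R (c (Sum.inr b)) * w b i)) := by
  let A := MvPolynomial (ι ⊕ β) k
  let B := MvPolynomial β R
  have hRF : Algebra.EssFiniteType R F := .of_isLocalization F (nonZeroDivisors R)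
  have hkF : Algebra.EssFiniteType k F := .comp k R F
  have hsm : Algebra.FormallySmooth k F := Algebra.FormallySmooth.of_perfectField
  have hrank : Module.finrank F Ω[F⁄k] = Fintype.card ι := by
    rw [CurvesB.SmoothCurveAlg.finrank_kaehler_eq_trdeg]
    obtain ⟨d, h1, h2, -⟩ := CalgC.DimFT.exists_dim k R
    have : Algebra.IsAlgebraic R F := IsLocalization.isAlgebraic _ (nonZeroDivisors R)
    have : FaithfulSMul k R := (faithfulSMul_iff_algebraMap_injective k R).2
      (algebraMap k R).injective
    have : FaithfulSMul R F := (faithfulSMul_iff_algebraMap_injective R F).2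
      (IsFractionRing.injective R F)
    have h3 := trdeg_add_eq k R (A := F)
    rw [trdeg_eq_zero (R := R) (A := F), h2] at h3
    rw [h1] at hdim
    have : d = Fintype.card ι := by exact_mod_cast hdim
    have h4 : Algebra.trdeg k F = d := by simpa using h3.symm
    simp [h4, this]
  obtain ⟨g, hg, hgk⟩ := exists_killing (k := k) w F hrank hspan (FractionRing B)
  have : IsNoetherianRing R := Algebra.FiniteType.isNoetherianRing k R
  have hdim' : ringKrullDim B ≤ ringKrullDim A := by
    rw [MvPolynomial.ringKrullDim_of_isNoetherianRing, MvPolynomial.ringKrullDim_of_isNoetherianRing,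
      hdim, ringKrullDim_eq_zero_of_field, Nat.card_sum, Nat.card_eq_fintype_card,
      Nat.card_eq_fintype_card]
    simp
  have hft : Algebra.FiniteType k B := Algebra.FiniteType.trans (R := k) (S := R) (A := B) ‹_› inferInstance
  obtain ⟨h, hh0, hgh⟩ := exists_dvd k (univ (k := k) w) hdim' g hg
  refine ⟨h, hh0, fun c hc => unramified_of_eval w h ?_ c hc⟩
  intro x
  obtain ⟨b, hb⟩ := hgh
  change univ (k := k) w h • x = 0
  rw [hb, mul_comm, mul_smul, hgk, smul_zero]

end main

end Groth.Agent.Vancyc.H678.GenUnram
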