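import Groth.Agent.Sga67.Sec
import Groth.Prelude.Def_ProjUP
import Groth.Agent.CalgC.DimFT
import Mathlib.AlgebraicGeometry.FunctionField
import Mathlib.AlgebraicGeometry.Morphisms.FiniteType
import Mathlib.Topology.KrullDimension

/-!
# Integral schemes of finite type over a field: sections over affine opens

* `str p U : k →+* Γ(Z, U)`, the structure map for `p : Z ⟶ Spec k`.
* `ringKrullDim_eq`: for `Z` integral of Krull dimension `m`, locally of finite type over `k`, the ring of sections
  over a nonempty affine open has dimension `m`.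
-/

set_option autoImplicit false
universe u
open CategoryTheory CategoryTheory.Limits AlgebraicGeometry TopologicalSpace Opposite

namespace Groth.Agent.Vancyc.H678.KDim

open Groth.Agent.Sga67.Sec

variable {k : Type u} [Field k] {Z : Scheme.{u}} (p : Z ⟶ Spec (CommRingCat.of k))

/-- The structure map `k → Γ(Z, U)`. -/
noncomputable def str (U : Z.Opens) : k →+* Γ(Z, U) := (resO Z le_top).comp (ProjUP.toGlobal p)

theorem resO_str {U V : Z.Opens} (h : V ≤ U) (a : k) : resO Z h (str p U a) = str p V a := by
  simp only [str, RingHom.comp_apply, resO_resO]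

theorem finiteType_str [LocallyOfFiniteType p] {U : Z.Opens} (hU : IsAffineOpen U) :
    (str p U).FiniteType := by
  have h1 : (p.appLE ⊤ U le_top).hom.FiniteType := p.finiteType_appLE (isAffineOpen_top _) hU _
  have h2 : str p U = (p.appLE ⊤ U le_top).hom.comp (Scheme.ΓSpecIso (CommRingCat.of k)).inv.hom := by
    rw [str, ProjUP.toGlobal, ← RingHom.comp_assoc]
    rfl
  rw [h2]
  exact h1.comp (RingHom.FiniteType.of_surjective _
    (Scheme.ΓSpecIso (CommRingCat.of k)).symm.commRingCatIsoToRingEquiv.surjective)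

/-- The dimension is the supremum of the dimensions of neighbourhoods of points. -/
theorem topologicalKrullDim_le_of_local {T : Type*} [TopologicalSpace T] (d : WithBot ℕ∞)
    (h : ∀ x : T, ∃ U : Set T, IsOpen U ∧ x ∈ U ∧ topologicalKrullDim U ≤ d) :
    topologicalKrullDim T ≤ d := by
  refine iSup_le fun p => ?_
  obtain ⟨x, hx⟩ := p.head.2.1
  obtain ⟨U, hU, hxU, hUd⟩ := h x
  refine le_trans ?_ hUd
  have hle : ∀ i, (p.head : Set T) ⊆ p i := fun i => LTSeries.head_le p i
  have hmem : ∀ i, x ∈ (p i : Set T) := fun i => hle i hx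
  let q : LTSeries (IrreducibleCloseds U) :=
    { length := p.length
      toFun := fun i => ⟨(Subtype.val : U → T) ⁻¹' (p i : Set T),
        ⟨⟨(⟨x, hxU⟩ : U), hmem i⟩, (p i).2.2.preimage hU.isOpenEmbedding_subtypeVal⟩,
        (p i).3.preimage continuous_subtype_val⟩
      step := fun i => by
        have h1 : p i.castSucc < p i.succ := p.step i
        refine show (_ : IrreducibleCloseds U) < _ from lt_of_le_of_ne ?_ ?_
        · exact fun y hy => (show (p i.castSucc : Set T) ⊆ p i.succ from le_of_lt h1) hy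
        · intro h2
          have h3 : ((↑) ⁻¹' (p i.castSucc : Set T) : Set U) = (↑) ⁻¹' (p i.succ : Set T) :=
            congrArg (fun z : IrreducibleCloseds U => (z : Set U)) h2
          have h4 : (p i.succ : Set T) ⊆ (p i.castSucc : Set T) ∪ Uᶜ := by
            intro y hy
            by_cases hyU : y ∈ U
            · left
              have : (⟨y, hyU⟩ : U) ∈ ((↑) ⁻¹' (p i.succ : Set T) : Set U) := hy
              rw [← h3] at this
              exact this
            · right
              exact hyU
          rcases (isPreirreducible_iff_isClosed_union_isClosed.1 (p i.succ).2.2) _ _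
            (p i.castSucc).3 hU.isClosed_compl h4 with h5 | h5
          · exact (not_le_of_gt h1) h5
          · exact h5 (hmem _) hxU }
  exact le_iSup (fun s : LTSeries (IrreducibleCloseds U) => ((s.length : ℕ∞) : WithBot ℕ∞)) q

theorem topologicalKrullDim_affine {U : Z.Opens} (hU : IsAffineOpen U) :
    topologicalKrullDim (U : Set Z) = ringKrullDim Γ(Z, U) := by
  rw [← PrimeSpectrum.topologicalKrullDim_eq_ringKrullDim]
  have h := hU.isoSpec.hom.homeomorph
  exact IsHomeomorph.topologicalKrullDim_eq _ h.isHomeomorph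

/-- For `Z` integral, locally of finite type over `k`, the dimension of the ring of sections over a nonempty
affine open is the transcendence degree of the function field. -/
theorem exists_dim [IsIntegral Z] [LocallyOfFiniteType p] : ∃ d : ℕ, ∀ U : Z.Opens, IsAffineOpen U →
    (U : Set Z).Nonempty → ringKrullDim Γ(Z, U) = d := by
  obtain ⟨z⟩ : Nonempty Z := inferInstance
  obtain ⟨_, ⟨U₀, hU₀, rfl⟩, hz₀, -⟩ :=
    Z.isBasis_affineOpens.exists_subset_of_mem_open (Set.mem_univ z) isOpen_univ
  let ψ (U : Z.Opens) (hU : (U : Set Z).Nonempty) : Γ(Z, U) →+* Z.functionField :=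
    haveI : Nonempty U := hU.to_subtype
    (Z.germToFunctionField U).hom
  have hψ : ∀ (U : Z.Opens) (hU : (U : Set Z).Nonempty),
      (ψ U hU).comp (str p U) = (ψ ⊤ ⟨z, trivial⟩).comp (str p ⊤) := by
    intro U hU
    ext a
    have : Nonempty U := hU.to_subtype
    rw [RingHom.comp_apply, RingHom.comp_apply, ← resO_str p (le_top : U ≤ ⊤)]
    exact TopCat.Presheaf.germ_res_apply Z.presheaf (homOfLE le_top) _ _ _
  let ik : Algebra k Z.functionField := ((ψ ⊤ ⟨z, trivial⟩).comp (str p ⊤)).toAlgebra
  have key : ∀ U : Z.Opens, IsAffineOpen U → (U : Set Z).Nonempty →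
      ringKrullDim Γ(Z, U) = (Cardinal.toENat (Algebra.trdeg k Z.functionField) : WithBot ℕ∞) := by
    intro U hU hUn
    have hne : Nonempty U := hUn.to_subtype
    let iU : Algebra k Γ(Z, U) := (str p U).toAlgebra
    have hft : Algebra.FiniteType k Γ(Z, U) := finiteType_str p hU
    have hfr : IsFractionRing Γ(Z, U) Z.functionField := functionField_isFractionRing_of_isAffineOpen Z U hU
    have ht : IsScalarTower k Γ(Z, U) Z.functionField := .of_algebraMap_eq fun a =>
      (RingHom.congr_fun (hψ U hUn) a).symm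
    have : Algebra.IsAlgebraic Γ(Z, U) Z.functionField := IsLocalization.isAlgebraic _ (nonZeroDivisors _)
    have : FaithfulSMul k Γ(Z, U) := (faithfulSMul_iff_algebraMap_injective _ _).2
      (algebraMap k Γ(Z, U)).injective
    have : FaithfulSMul Γ(Z, U) Z.functionField := (faithfulSMul_iff_algebraMap_injective _ _).2
      (IsFractionRing.injective _ _)
    have h3 := trdeg_add_eq k Γ(Z, U) (A := Z.functionField)
    rw [trdeg_eq_zero (R := Γ(Z, U)) (A := Z.functionField), add_zero] at h3
    rw [CalgC.DimFT.ringKrullDim_eq_trdeg k, h3]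
  obtain ⟨d, hd⟩ : ∃ d : ℕ, ringKrullDim Γ(Z, U₀) = d := by
    let iU : Algebra k Γ(Z, U₀) := (str p U₀).toAlgebra
    have hft : Algebra.FiniteType k Γ(Z, U₀) := finiteType_str p hU₀
    have : Nonempty U₀ := ⟨⟨z, hz₀⟩⟩
    obtain ⟨d, hd, -⟩ := CalgC.DimFT.exists_dim k Γ(Z, U₀)
    exact ⟨d, hd⟩
  exact ⟨d, fun U hU hUn => by rw [key U hU hUn, ← key U₀ hU₀ ⟨z, hz₀⟩, hd]⟩

theorem ringKrullDim_eq [IsIntegral Z] [LocallyOfFiniteType p] {m : ℕ} (hm : topologicalKrullDim Z = m)
    {U : Z.Opens} (hU : IsAffineOpen U) (hUn : (U : Set Z).Nonempty) : ringKrullDim Γ(Z, U) = m := by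
  obtain ⟨d, hd⟩ := exists_dim p
  rw [hd U hU hUn, ← hm]
  apply le_antisymm
  · rw [← hd U hU hUn, ← topologicalKrullDim_affine hU]
    exact topologicalKrullDim_subspace_le _ _
  · refine topologicalKrullDim_le_of_local _ fun x => ?_
    obtain ⟨_, ⟨V, hV, rfl⟩, hxV, -⟩ :=
      Z.isBasis_affineOpens.exists_subset_of_mem_open (Set.mem_univ x) isOpen_univ
    refine ⟨V, V.isOpen, hxV, ?_⟩
    rw [topologicalKrullDim_affine hV, hd V hV ⟨x, hxV⟩]

end Groth.Agent.Vancyc.H678.KDim
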