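import Groth.Prelude.Def_QuadSing
import Groth.Agent.Ega41.MvPS
import Groth.Agent.CurvesB.SeriesEval

/-!
# Linear and quadratic parts of power series under substitution

For a power series `f` in the variables `X_i`, `L f v = Σ_i f_{e_i} v_i` and
`D2 f v = quadEval (quadPart f) v`.  For an endomorphism `θ` of `R[[X]]` fixing the constants and mapping the
variables into the ideal of the variables, `D2 (θ g) v = D2 g (T v)` for `g` without low terms, `T` the matrix of
linear parts of the `θ X_i`.
-/

set_option autoImplicit false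

universe u

namespace Groth.Agent.Vancyc.H678.P2Lin

open VanCyc MvPowerSeries Finsupp Matrix

variable {R : Type u} [CommRing R] {N : ℕ}

/-- The linear part of a power series as a function. -/
noncomputable def L (f : MvPowerSeries (Fin N) R) (v : Fin N → R) : R :=
  ∑ i : Fin N, coeff (single i 1) f * v i

/-- The quadratic part of a power series as a function. -/
noncomputable def D2 (f : MvPowerSeries (Fin N) R) (v : Fin N → R) : R :=
  quadEval (quadPart f) v

theorem L_add (f g : MvPowerSeries (Fin N) R) (v : Fin N → R) : L (f + g) v = L f v + L g v := by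
  simp only [L, map_add, add_mul, Finset.sum_add_distrib]

theorem L_zero (v : Fin N → R) : L (0 : MvPowerSeries (Fin N) R) v = 0 := by
  simp [L]

theorem D2_eq (f : MvPowerSeries (Fin N) R) (v : Fin N → R) :
    D2 f v = ∑ i : Fin N, ∑ j : Fin N,
      if i ≤ j then coeff (single i 1 + single j 1) f * v i * v j else 0 := by
  unfold D2 quadEval
  refine Finset.sum_congr rfl fun i _ => Finset.sum_congr rfl fun j _ => ?_
  split_ifs with h
  · congr 2
    unfold quadPart
    rcases h.lt_or_eq with h | h
    · rw [if_neg h.ne, if_pos h]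
    · subst h; rw [if_pos rfl, ← Finsupp.single_add]
  · rfl

theorem D2_add (f g : MvPowerSeries (Fin N) R) (v : Fin N → R) : D2 (f + g) v = D2 f v + D2 g v := by
  rw [D2_eq, D2_eq, D2_eq, ← Finset.sum_add_distrib]
  refine Finset.sum_congr rfl fun i _ => ?_
  rw [← Finset.sum_add_distrib]
  refine Finset.sum_congr rfl fun j _ => ?_
  split_ifs
  · rw [map_add]; ring
  · ring

theorem D2_zero (v : Fin N → R) : D2 (0 : MvPowerSeries (Fin N) R) v = 0 := by
  rw [D2_eq]; simp

theorem coeff_single_mul_X (h : MvPowerSeries (Fin N) R) (i k : Fin N) :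
    coeff (single i 1) (h * X k) = if k = i then constantCoeff h else 0 := by
  classical
  rw [X, coeff_mul_monomial, mul_one]
  by_cases hk : k = i
  · subst hk; rw [if_pos le_rfl, if_pos rfl, tsub_self]; rfl
  · rw [if_neg, if_neg hk]
    intro hle
    have := hle k
    rw [single_eq_same, single_eq_of_ne' (Ne.symm hk)] at this
    omega

theorem coeff_two_mul_X (h : MvPowerSeries (Fin N) R) (i j k : Fin N) :
    coeff (single i 1 + single j 1) (h * X k) =
      if k = i then coeff (single j 1) h else if k = j then coeff (single i 1) h else 0 := by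
  classical
  rw [X, coeff_mul_monomial, mul_one]
  by_cases hk : k = i
  · subst hk
    rw [if_pos le_self_add, if_pos rfl, add_tsub_cancel_left]
  · rw [if_neg hk]
    by_cases hk' : k = j
    · subst hk'
      rw [if_pos le_add_self, if_pos rfl, add_tsub_cancel_right]
    · rw [if_neg, if_neg hk']
      intro hle
      have := hle k
      rw [Finsupp.add_apply, single_eq_same, single_eq_of_ne' (Ne.symm hk),
        single_eq_of_ne' (Ne.symm hk')] at this
      omega

theorem L_mul_X (h : MvPowerSeries (Fin N) R) (k : Fin N) (v : Fin N → R) :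
    L (h * X k) v = constantCoeff h * v k := by
  unfold L
  simp only [coeff_single_mul_X, ite_mul, zero_mul, Finset.sum_ite_eq, Finset.mem_univ, if_true]

theorem D2_mul_X (h : MvPowerSeries (Fin N) R) (k : Fin N) (v : Fin N → R) :
    D2 (h * X k) v = L h v * v k := by
  rw [D2_eq]
  have h1 : ∀ i j : Fin N,
      (if i ≤ j then coeff (single i 1 + single j 1) (h * X k) * v i * v j else 0) =
        (if k = i then (if k ≤ j then coeff (single j 1) h * v k * v j else 0) else 0) +
          (if k = j then (if i < k then coeff (single i 1) h * v i * v k else 0) else 0) := by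
    intro i j
    rw [coeff_two_mul_X]
    by_cases hi : k = i
    · subst hi
      by_cases hj : k = j
      · subst hj; simp
      · rw [if_pos rfl, if_pos rfl, if_neg hj, add_zero]
    · rw [if_neg hi, if_neg hi, zero_add]
      by_cases hj : k = j
      · subst hj
        rw [if_pos rfl, if_pos rfl]
        by_cases hlt : i < k
        · rw [if_pos hlt, if_pos hlt.le]
        · rw [if_neg hlt, if_neg]
          intro hle
          exact hlt (lt_of_le_of_ne hle (Ne.symm hi))
      · rw [if_neg hj, if_neg hj]; simp
  simp only [h1, Finset.sum_add_distrib, Finset.sum_ite_eq, Finset.mem_univ, if_true]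
  have h2 : (∑ i : Fin N, ∑ j : Fin N,
      if k = i then (if k ≤ j then coeff (single j 1) h * v k * v j else 0) else 0) =
      ∑ j : Fin N, if k ≤ j then coeff (single j 1) h * v k * v j else 0 := by
    rw [Finset.sum_comm]
    refine Finset.sum_congr rfl fun j _ => ?_
    rw [Finset.sum_ite_eq, if_pos (Finset.mem_univ _)]
  rw [h2, ← Finset.sum_add_distrib, L, Finset.sum_mul]
  refine Finset.sum_congr rfl fun j _ => ?_
  by_cases hk : k ≤ j
  · rw [if_pos hk, if_neg (not_lt.2 hk)]; ring
  · rw [if_neg hk, if_pos (not_le.1 hk)]; ring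

/-- A power series without constant term is a combination of the variables. -/
theorem exists_eq_sum (a : MvPowerSeries (Fin N) R) (ha : constantCoeff a = 0) :
    ∃ c : Fin N → MvPowerSeries (Fin N) R, a = ∑ k, c k * X k := by
  have ha' := (Groth.Agent.CurvesB.SeriesEval.mem_span_range_X_iff a).2 ha
  obtain ⟨c, hc⟩ := Ideal.mem_span_range_iff_exists_fun.1 ha'
  exact ⟨c, hc.symm⟩

theorem L_sum {ι : Type*} (s : Finset ι) (a : ι → MvPowerSeries (Fin N) R) (v : Fin N → R) :
    L (∑ k ∈ s, a k) v = ∑ k ∈ s, L (a k) v := by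
  classical
  induction s using Finset.induction_on with
  | empty => simp [L_zero]
  | insert x s hx ih => rw [Finset.sum_insert hx, Finset.sum_insert hx, L_add, ih]

theorem D2_sum {ι : Type*} (s : Finset ι) (a : ι → MvPowerSeries (Fin N) R) (v : Fin N → R) :
    D2 (∑ k ∈ s, a k) v = ∑ k ∈ s, D2 (a k) v := by
  classical
  induction s using Finset.induction_on with
  | empty => simp [D2_zero]
  | insert x s hx ih => rw [Finset.sum_insert hx, Finset.sum_insert hx, D2_add, ih]

/-- `L (c a) = c(0) L a` for `a` without constant term. -/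
theorem L_mul (c a : MvPowerSeries (Fin N) R) (ha : constantCoeff a = 0) (v : Fin N → R) :
    L (c * a) v = constantCoeff c * L a v := by
  obtain ⟨d, rfl⟩ := exists_eq_sum a ha
  rw [Finset.mul_sum, L_sum, L_sum, Finset.mul_sum]
  refine Finset.sum_congr rfl fun k _ => ?_
  rw [← mul_assoc, L_mul_X, L_mul_X, map_mul, mul_assoc]

/-- `D2 (a b) = L a * L b` for `a`, `b` without constant terms. -/
theorem D2_mul (a b : MvPowerSeries (Fin N) R) (ha : constantCoeff a = 0) (hb : constantCoeff b = 0)
    (v : Fin N → R) : D2 (a * b) v = L a v * L b v := by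
  obtain ⟨d, rfl⟩ := exists_eq_sum b hb
  rw [Finset.mul_sum, D2_sum, L_sum, Finset.mul_sum]
  refine Finset.sum_congr rfl fun k _ => ?_
  rw [← mul_assoc, D2_mul_X, L_mul_X, mul_comm a, L_mul _ _ ha]
  ring

theorem noLowTerms_add {f g : MvPowerSeries (Fin N) R} (hf : NoLowTerms f) (hg : NoLowTerms g) :
    NoLowTerms (f + g) :=
  ⟨by rw [map_add, hf.1, hg.1, add_zero], fun i => by rw [map_add, hf.2, hg.2, add_zero]⟩

/-- The square of the ideal of the variables is the ideal of the series without low terms. -/
theorem noLowTerms_iff (f : MvPowerSeries (Fin N) R) :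
    NoLowTerms f ↔ f ∈ Groth.Agent.Ega41.MvPS.varIdeal (Fin N) R ^ 2 := by
  constructor
  · rintro ⟨h0, h1⟩
    apply Groth.Agent.Ega41.MvPS.mem_varIdeal_pow_of_truncTotal_eq_zero
    ext x
    rw [MvPolynomial.coeff_zero]
    by_cases hx : x.degree < 2
    · rw [coeff_truncTotal _ hx]
      have h3 : x.degree = 0 ∨ x.degree = 1 := by omega
      rcases h3 with h3 | h3
      · rw [Finsupp.degree_eq_zero_iff] at h3
        rw [h3]; exact h0
      · obtain ⟨i, hi⟩ : x ∈ Set.range (fun a : Fin N => Finsupp.single a 1) := by
          rw [Finsupp.range_single_one]; exact h3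
        rw [← hi]; exact h1 i
    · rw [coeff_truncTotal_eq_zero _ (not_lt.mp hx)]
  · intro hf
    rw [pow_two] at hf
    refine Submodule.mul_induction_on hf ?_ ?_
    · intro a ha b hb
      have ha0 := Groth.Agent.Ega41.MvPS.constantCoeff_of_mem_varIdeal ha
      have hb0 := Groth.Agent.Ega41.MvPS.constantCoeff_of_mem_varIdeal hb
      refine ⟨by rw [map_mul, ha0, zero_mul], fun i => ?_⟩
      obtain ⟨d, rfl⟩ := exists_eq_sum b hb0
      rw [Finset.mul_sum, map_sum]
      refine Finset.sum_eq_zero fun k _ => ?_
      rw [← mul_assoc, coeff_single_mul_X, map_mul, ha0, zero_mul, ite_self]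
    · intro a b; exact noLowTerms_add

section Subst

variable (θ : MvPowerSeries (Fin N) R →+* MvPowerSeries (Fin N) R)
  (hθC : ∀ c, θ (C c) = C c) (hθX : ∀ i, constantCoeff (θ (X i)) = 0)

include hθX in
theorem constantCoeff_theta_zero (a : MvPowerSeries (Fin N) R) (ha : constantCoeff a = 0) :
    constantCoeff (θ a) = 0 := by
  obtain ⟨d, rfl⟩ := exists_eq_sum a ha
  rw [map_sum, map_sum]
  refine Finset.sum_eq_zero fun k _ => ?_
  rw [map_mul, map_mul, hθX, mul_zero]

include hθC hθX in
theorem constantCoeff_theta (a : MvPowerSeries (Fin N) R) :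
    constantCoeff (θ a) = constantCoeff a := by
  have h := constantCoeff_theta_zero θ hθX (a - C (constantCoeff a)) (by simp)
  rw [map_sub, map_sub, hθC] at h
  simpa [sub_eq_zero] using h

/-- The matrix of linear parts of the images of the variables. -/
noncomputable def T : Matrix (Fin N) (Fin N) R := fun i j => coeff (single j 1) (θ (X i))

theorem T_mulVec (v : Fin N → R) (i : Fin N) : (T θ).mulVec v i = L (θ (X i)) v := rfl

include hθC hθX in
theorem L_theta (a : MvPowerSeries (Fin N) R) (ha : constantCoeff a = 0) (v : Fin N → R) :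
    L (θ a) v = L a ((T θ).mulVec v) := by
  obtain ⟨d, rfl⟩ := exists_eq_sum a ha
  rw [map_sum, L_sum, L_sum]
  refine Finset.sum_congr rfl fun k _ => ?_
  rw [map_mul, L_mul _ _ (hθX k), L_mul_X, constantCoeff_theta θ hθC hθX, T_mulVec]

include hθC hθX in
/-- The quadratic part of `θ g` is the quadratic part of `g` composed with `T`. -/
theorem D2_theta (g : MvPowerSeries (Fin N) R) (hg : NoLowTerms g) (v : Fin N → R) :
    D2 (θ g) v = D2 g ((T θ).mulVec v) := by
  rw [noLowTerms_iff, pow_two] at hg
  induction hg using Submodule.mul_induction_on' with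
  | mem_mul_mem a ha b hb =>
    have ha0 := Groth.Agent.Ega41.MvPS.constantCoeff_of_mem_varIdeal ha
    have hb0 := Groth.Agent.Ega41.MvPS.constantCoeff_of_mem_varIdeal hb
    rw [map_mul, D2_mul _ _ (constantCoeff_theta_zero θ hθX a ha0)
      (constantCoeff_theta_zero θ hθX b hb0), L_theta θ hθC hθX a ha0, L_theta θ hθC hθX b hb0,
      D2_mul _ _ ha0 hb0]
  | add a ha b hb ha' hb' => rw [map_add, D2_add, D2_add, ha', hb']

end Subst

end Groth.Agent.Vancyc.H678.P2Lin
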