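import Groth.Agent.Vancyc.H678.P2Quad
import Groth.Agent.Vancyc.H678.P2Lin
import Groth.Agent.UnramA.SmoothCompletion
import Mathlib.RingTheory.AdicCompletion.LocalRing
import Mathlib.RingTheory.Nakayama

/-!
# The completion of an ordinary / non-degenerate quadratic point in given coordinates

`L` a local Noetherian `K`-algebra with an ordinary (non-degenerate) quadratic singularity of dimension `n`,
`x_0, …, x_n ∈ 𝔪` generating `𝔪` modulo `𝔪²`.  Then there is an ordinary (non-degenerate) quadratic series `g`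
such that `p(x) ∈ 𝔪^r ↔ p ∈ (g) + (X)^r`.
-/

set_option autoImplicit false

universe u

namespace Groth.Agent.Vancyc.H678.P2

open VanCyc MvPowerSeries IsLocalRing Groth.Agent.Vancyc.H678.P2Lin
  Groth.Agent.Vancyc.H678.P2Quad

section Completion

variable {L : Type u} [CommRing L] [IsLocalRing L] [IsNoetherianRing L]

/-- Membership in powers of the maximal ideal can be tested in the completion. -/
theorem algebraMap_mem_pow_iff (r : ℕ) (z : L) :
    algebraMap L (AdicCompletion (maximalIdeal L) L) z ∈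
      (maximalIdeal (AdicCompletion (maximalIdeal L) L)) ^ r ↔ z ∈ maximalIdeal L ^ r := by
  rw [AdicCompletion.maximalIdeal_eq_map, ← Ideal.map_pow]
  constructor
  · intro h
    have h1 : (maximalIdeal L ^ r).map (algebraMap L (AdicCompletion (maximalIdeal L) L)) ≤
        RingHom.ker (AdicCompletion.evalₐ (maximalIdeal L) r) := by
      rw [Ideal.map_le_iff_le_comap]
      intro y hy
      rw [Ideal.mem_comap, RingHom.mem_ker, AlgHom.commutes]
      exact Ideal.Quotient.eq_zero_iff_mem.2 hy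
    have h2 := h1 h
    rw [RingHom.mem_ker, AlgHom.commutes] at h2
    exact Ideal.Quotient.eq_zero_iff_mem.1 h2
  · exact fun h => Ideal.mem_map_of_mem _ h

end Completion

section General

/-- A surjection of local rings and the maximal ideals. -/
theorem maximalIdeal_of_surjective {P Q : Type*} [CommRing P] [CommRing Q] [IsLocalRing P]
    [IsLocalRing Q] (π : P →+* Q) (hπ : Function.Surjective π) :
    (maximalIdeal Q).comap π = maximalIdeal P ∧ maximalIdeal Q = (maximalIdeal P).map π := by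
  have h1 : ((maximalIdeal Q).comap π).IsMaximal := Ideal.comap_isMaximal_of_surjective π hπ
  have h2 := IsLocalRing.eq_maximalIdeal h1
  exact ⟨h2, by rw [← h2, Ideal.map_comap_of_surjective π hπ]⟩

/-- Pulling back powers of the maximal ideal along a quotient map. -/
theorem map_mem_pow_iff {P Q : Type*} [CommRing P] [CommRing Q] [IsLocalRing P]
    [IsLocalRing Q] (π : P →+* Q) (hπ : Function.Surjective π) (I : Ideal P)
    (hI : RingHom.ker π = I) (r : ℕ) (y : P) :
    π y ∈ maximalIdeal Q ^ r ↔ y ∈ I ⊔ maximalIdeal P ^ r := by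
  rw [(maximalIdeal_of_surjective π hπ).2, ← Ideal.map_pow, ← Ideal.mem_comap,
    Ideal.comap_map_of_surjective π hπ, sup_comm, ← hI]
  rfl

end General

section Main

variable {K : Type u} [Field K] {L : Type u} [CommRing L] [IsLocalRing L] [IsNoetherianRing L]
  [Algebra K L] {N : ℕ}

/-- The main construction. -/
theorem exists_auto (f : MvPowerSeries (Fin N) K) (hf : NoLowTerms f)
    (e : AdicCompletion (maximalIdeal L) L ≃ₐ[K] (MvPowerSeries (Fin N) K ⧸ Ideal.span {f}))
    (x : Fin N → L) (hx : ∀ i, x i ∈ maximalIdeal L)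
    (hgen : maximalIdeal L ≤ Ideal.span (Set.range x) ⊔ maximalIdeal L ^ 2) :
    ∃ (θ : MvPowerSeries (Fin N) K →+* MvPowerSeries (Fin N) K) (g : MvPowerSeries (Fin N) K),
      Function.Bijective θ ∧ (∀ c, θ (C c) = C c) ∧ (∀ i, constantCoeff (θ (X i)) = 0) ∧ θ g = f ∧
      (∀ w, ∃ v, (T θ).mulVec v = w) ∧ NoLowTerms g ∧
      ∀ (r : ℕ) (p : MvPolynomial (Fin N) K), MvPolynomial.aeval x p ∈ maximalIdeal L ^ r ↔
        (p : MvPowerSeries (Fin N) K) ∈ Ideal.span {g} ⊔ (Ideal.span (Set.range X)) ^ r := by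
  classical
  have hmPX : maximalIdeal (MvPowerSeries (Fin N) K) =
      Ideal.span (Set.range (X : Fin N → MvPowerSeries (Fin N) K)) :=
    Groth.Agent.Ega41.MvPS.maximalIdeal_eq K
  have hcomp : IsAdicComplete (maximalIdeal (MvPowerSeries (Fin N) K)) (MvPowerSeries (Fin N) K) :=
    Groth.Agent.Ega41.MvPS.isAdicComplete_maximalIdeal K
  generalize hmP : maximalIdeal (MvPowerSeries (Fin N) K) = mP at hmPX hcomp
  have hmem : ∀ y : MvPowerSeries (Fin N) K, y ∈ mP ↔ constantCoeff y = 0 := by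
    intro y; rw [hmPX]; exact Groth.Agent.Ega41.MvPS.mem_varIdeal_iff
  have hfm2 : f ∈ mP ^ 2 := by
    rw [hmPX]; exact (noLowTerms_iff f).1 hf
  have hfin : Ideal.span {f} ≤ mP ^ 2 := by
    rw [Ideal.span_le, Set.singleton_subset_iff]; exact hfm2
  generalize hπdef : Ideal.Quotient.mk (Ideal.span {f}) = π
  have hπ : Function.Surjective π := by rw [← hπdef]; exact Ideal.Quotient.mk_surjective
  have hker : RingHom.ker π = Ideal.span {f} := by rw [← hπdef]; exact Ideal.mk_ker
  have hmPmax : mP.IsMaximal := by rw [← hmP]; infer_instance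
  -- `Q` is local
  have hnt : Nontrivial (MvPowerSeries (Fin N) K ⧸ Ideal.span {f}) := by
    refine Ideal.Quotient.nontrivial_iff.2 ?_
    intro h
    have : (1 : MvPowerSeries (Fin N) K) ∈ mP ^ 2 := hfin (h ▸ Submodule.mem_top)
    exact (Ideal.ne_top_iff_one mP).1 hmPmax.ne_top (Ideal.pow_le_self two_ne_zero this)
  have hQloc : IsLocalRing (MvPowerSeries (Fin N) K ⧸ Ideal.span {f}) :=
    IsLocalRing.of_surjective' π hπ
  have hmQ := maximalIdeal_of_surjective π hπ
  rw [hmP] at hmQ
  have he : ∀ (r : ℕ) (y : AdicCompletion (maximalIdeal L) L),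
      e y ∈ maximalIdeal (MvPowerSeries (Fin N) K ⧸ Ideal.span {f}) ^ r ↔
        y ∈ maximalIdeal (AdicCompletion (maximalIdeal L) L) ^ r := by
    intro r y
    have h1 := map_mem_pow_iff (e : AdicCompletion (maximalIdeal L) L →+*
      (MvPowerSeries (Fin N) K ⧸ Ideal.span {f})) e.surjective ⊥
      ((RingHom.injective_iff_ker_eq_bot _).1 e.injective) r y
    rw [bot_sup_eq] at h1
    exact h1
  -- the composite `L → Q`
  let ι : L →+* (MvPowerSeries (Fin N) K ⧸ Ideal.span {f}) :=
    (e : AdicCompletion (maximalIdeal L) L →+*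
      (MvPowerSeries (Fin N) K ⧸ Ideal.span {f})).comp
    (algebraMap L (AdicCompletion (maximalIdeal L) L))
  have hι : ∀ (r : ℕ) (z : L), ι z ∈ maximalIdeal (MvPowerSeries (Fin N) K ⧸ Ideal.span {f}) ^ r ↔
      z ∈ maximalIdeal L ^ r := by
    intro r z
    exact (he r _).trans (algebraMap_mem_pow_iff r z)
  have hιK : ∀ c : K, ι (algebraMap K L c) = π (C c) := by
    intro c
    change e (algebraMap L (AdicCompletion (maximalIdeal L) L) (algebraMap K L c)) = _
    rw [← IsScalarTower.algebraMap_apply, e.commutes, ← hπdef]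
    rfl
  choose ξ hξ using fun i => hπ (ι (x i))
  have hξm : ∀ i, ξ i ∈ mP := by
    intro i
    rw [← hmQ.1, Ideal.mem_comap, hξ]
    have := (hι 1 (x i)).2 (by simpa using hx i)
    simpa using this
  -- `m_Q` is generated by the images of the `x i` modulo its square
  have hgenL : maximalIdeal (AdicCompletion (maximalIdeal L) L) ≤
      (Ideal.span (Set.range x)).map (algebraMap L (AdicCompletion (maximalIdeal L) L)) ⊔
        maximalIdeal (AdicCompletion (maximalIdeal L) L) ^ 2 := by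
    rw [AdicCompletion.maximalIdeal_eq_map, ← Ideal.map_pow, ← Ideal.map_sup]
    exact Ideal.map_mono hgen
  have hgenQ : maximalIdeal (MvPowerSeries (Fin N) K ⧸ Ideal.span {f}) ≤
      Ideal.map π (Ideal.span (Set.range ξ) ⊔ mP ^ 2) := by
    have h1 := (maximalIdeal_of_surjective (e : AdicCompletion (maximalIdeal L) L →+*
      (MvPowerSeries (Fin N) K ⧸ Ideal.span {f})) e.surjective).2
    have h2 := Ideal.map_mono (f := (e : AdicCompletion (maximalIdeal L) L →+*
      (MvPowerSeries (Fin N) K ⧸ Ideal.span {f}))) hgenL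
    rw [← h1, Ideal.map_sup, Ideal.map_pow, ← h1, Ideal.map_map] at h2
    refine h2.trans ?_
    rw [Ideal.map_sup, Ideal.map_pow, ← hmQ.2]
    refine sup_le_sup_right ?_ _
    rw [Ideal.map_span, Ideal.span_le]
    rintro _ ⟨_, ⟨i, rfl⟩, rfl⟩
    change ι (x i) ∈ _
    rw [← hξ]
    exact Ideal.mem_map_of_mem _ (Ideal.subset_span ⟨i, rfl⟩)
  have hgenP : mP ≤ Ideal.span (Set.range ξ) ⊔ mP ^ 2 := by
    intro y hy
    have h1 : π y ∈ Ideal.map π (Ideal.span (Set.range ξ) ⊔ mP ^ 2) := by
      refine hgenQ ?_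
      rw [hmQ.2]
      exact Ideal.mem_map_of_mem _ hy
    rw [← Ideal.mem_comap, Ideal.comap_map_of_surjective π hπ] at h1
    have h2 : Ideal.comap π ⊥ ≤ mP ^ 2 := by
      change RingHom.ker π ≤ _
      rw [hker]; exact hfin
    exact (sup_le le_rfl (h2.trans le_sup_right) : _ ≤ Ideal.span (Set.range ξ) ⊔ mP ^ 2) h1
  have hspan : mP = Ideal.span (Set.range ξ) := by
    apply le_antisymm
    · refine Submodule.le_of_le_smul_of_le_jacobson_bot (I := mP) (N := Ideal.span (Set.range ξ))
        (N' := mP) ?_ ?_ ?_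
      · exact (isNoetherianRing_iff_ideal_fg _).1 inferInstance mP
      · rw [← hmP]; exact IsLocalRing.maximalIdeal_le_jacobson _
      · rw [smul_eq_mul, ← pow_two]; exact hgenP
    · rw [Ideal.span_le]
      rintro _ ⟨i, rfl⟩
      exact hξm i
  -- the endomorphism
  let θ : MvPowerSeries (Fin N) K →+* MvPowerSeries (Fin N) K :=
    Groth.Agent.CurvesB.SeriesEval.eval mP (C : K →+* MvPowerSeries (Fin N) K) ξ hξm
  have hθX : ∀ i, θ (X i) = ξ i := fun i => Groth.Agent.CurvesB.SeriesEval.eval_X _ _ _ _ i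
  have hθC : ∀ c, θ (C c) = C c := fun c => Groth.Agent.CurvesB.SeriesEval.eval_C _ _ _ _ c
  have hθsurj : Function.Surjective θ := by
    refine Groth.Agent.CurvesB.SeriesEval.eval_surjective mP _ ξ hξm hspan ?_
    intro y
    obtain ⟨y, rfl⟩ := Ideal.Quotient.mk_surjective y
    refine ⟨constantCoeff y, ?_⟩
    rw [RingHom.comp_apply, Ideal.Quotient.mk_eq_mk_iff_sub_mem, hmem]
    simp
  have hθinj : Function.Injective θ :=
    Groth.Agent.UnramA.SmoothCompletion.injective_of_surjective_endomorphism θ hθsurj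
  have hθbij : Function.Bijective θ := ⟨hθinj, hθsurj⟩
  have hθmap : mP.map θ = mP := by
    conv_lhs => rw [hmPX]
    rw [Ideal.map_span, ← Set.range_comp]
    rw [hspan]
    congr 2
    ext1 i
    exact hθX i
  obtain ⟨g, hg⟩ := hθsurj f
  have hX0 : ∀ i, constantCoeff (θ (X i)) = 0 := fun i => by
    rw [hθX, ← hmem]; exact hξm i
  -- `θ y ∈ (f) + m^r ↔ y ∈ (g) + m^r`
  have hθmem : ∀ (r : ℕ) (y : MvPowerSeries (Fin N) K),
      θ y ∈ Ideal.span {f} ⊔ mP ^ r ↔ y ∈ Ideal.span {g} ⊔ mP ^ r := by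
    intro r y
    have h1 : Ideal.span {f} ⊔ mP ^ r = (Ideal.span {g} ⊔ mP ^ r).map θ := by
      rw [Ideal.map_sup, Ideal.map_pow, hθmap, Ideal.map_span, Set.image_singleton, hg]
    rw [h1, ← Ideal.mem_comap, Ideal.comap_map_of_bijective θ hθbij]
  refine ⟨θ, g, hθbij, hθC, hX0, hg, ?_, ?_, ?_⟩
  · -- surjectivity of `T`
    have h1 : ∀ k, ∃ c : Fin N → MvPowerSeries (Fin N) K, ∑ i, c i * ξ i = X k := by
      intro k
      have : (X k : MvPowerSeries (Fin N) K) ∈ Ideal.span (Set.range ξ) := by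
        rw [← hspan, hmem]; simp
      exact Ideal.mem_span_range_iff_exists_fun.1 this
    choose c hc using h1
    let M : Matrix (Fin N) (Fin N) K := fun k i => constantCoeff (c k i)
    have hM : M * T θ = 1 := by
      apply Matrix.toLin'.injective
      refine LinearMap.ext fun v => ?_
      rw [Matrix.toLin'_apply, Matrix.toLin'_apply, ← Matrix.mulVec_mulVec, Matrix.one_mulVec]
      funext k
      have h2 : P2Lin.L (X k : MvPowerSeries (Fin N) K) v = v k := by
        have := L_mul_X (1 : MvPowerSeries (Fin N) K) k v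
        rw [one_mul, map_one, one_mul] at this
        exact this
      rw [← h2, ← hc k, L_sum]
      change ∑ i, M k i * (T θ).mulVec v i = _
      refine Finset.sum_congr rfl fun i _ => ?_
      rw [L_mul _ _ ((hmem _).1 (hξm i)), T_mulVec, hθX]
    have hM' : T θ * M = 1 := mul_eq_one_comm.1 hM
    intro w
    exact ⟨M.mulVec w, by rw [Matrix.mulVec_mulVec, hM', Matrix.one_mulVec]⟩
  · rw [noLowTerms_iff]
    have h1 : θ g ∈ (mP ^ 2).map θ := by
      rw [Ideal.map_pow, hθmap, hg]; exact hfm2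
    rw [← Ideal.mem_comap, Ideal.comap_map_of_bijective θ hθbij] at h1
    rw [hmPX] at h1
    exact h1
  · intro r p
    rw [← hmPX, ← hθmem, ← hι]
    have h1 : ι (MvPolynomial.aeval x p) = π (θ (p : MvPowerSeries (Fin N) K)) := by
      have h2 : θ (p : MvPowerSeries (Fin N) K) =
          MvPolynomial.eval₂Hom (C : K →+* MvPowerSeries (Fin N) K) ξ p :=
        Groth.Agent.CurvesB.SeriesEval.eval_coe _ _ _ _ p
      rw [h2]
      have h3 : ι.comp (MvPolynomial.aeval x : MvPolynomial (Fin N) K →ₐ[K] L).toRingHom =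
          π.comp (MvPolynomial.eval₂Hom (C : K →+* MvPowerSeries (Fin N) K) ξ) := by
        apply MvPolynomial.ringHom_ext
        · intro c
          simp [hιK]
        · intro i
          simp [hξ]
      exact congrArg (fun t => t p) h3
    have h4 := map_mem_pow_iff π hπ _ hker r (θ (p : MvPowerSeries (Fin N) K))
    rw [hmP] at h4
    rw [h1, h4]

/-- **P2, ordinary case.** -/
theorem exists_ordQuadSeries {n : ℕ} (hq : IsOrdQuadSing K L n) (x : Fin (n + 1) → L)
    (hx : ∀ i, x i ∈ maximalIdeal L)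
    (hgen : maximalIdeal L ≤ Ideal.span (Set.range x) ⊔ maximalIdeal L ^ 2) :
    ∃ g : MvPowerSeries (Fin (n + 1)) K, OrdQuadSeries g ∧
      ∀ (r : ℕ) (p : MvPolynomial (Fin (n + 1)) K), MvPolynomial.aeval x p ∈ maximalIdeal L ^ r ↔
        (p : MvPowerSeries (Fin (n + 1)) K) ∈ Ideal.span {g} ⊔ (Ideal.span (Set.range X)) ^ r := by
  obtain ⟨f, hf, ⟨e⟩⟩ := hq
  obtain ⟨θ, g, -, hθC, hθX, hg, hT, hlow, h⟩ := exists_auto f hf.1 e x hx hgen
  refine ⟨g, ⟨hlow, ?_⟩, h⟩
  refine quadOrd_of_comp (quadPart g) (quadPart f) (T θ) hT (fun v => ?_) hf.2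
  rw [← hg]
  exact D2_theta θ hθC hθX g hlow v

/-- **P2, non-degenerate case.** -/
theorem exists_nondegQuadSeries {n : ℕ} (hq : IsNondegQuadSing K L n) (x : Fin (n + 1) → L)
    (hx : ∀ i, x i ∈ maximalIdeal L)
    (hgen : maximalIdeal L ≤ Ideal.span (Set.range x) ⊔ maximalIdeal L ^ 2) :
    ∃ g : MvPowerSeries (Fin (n + 1)) K, NondegQuadSeries g ∧
      ∀ (r : ℕ) (p : MvPolynomial (Fin (n + 1)) K), MvPolynomial.aeval x p ∈ maximalIdeal L ^ r ↔
        (p : MvPowerSeries (Fin (n + 1)) K) ∈ Ideal.span {g} ⊔ (Ideal.span (Set.range X)) ^ r := by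
  obtain ⟨f, hf, ⟨e⟩⟩ := hq
  obtain ⟨θ, g, -, hθC, hθX, hg, hT, hlow, h⟩ := exists_auto f hf.1 e x hx hgen
  refine ⟨g, ⟨hlow, ?_⟩, h⟩
  refine quadNondeg_of_comp (quadPart g) (quadPart f) (T θ) (fun v => ?_) hf.2
  rw [← hg]
  exact D2_theta θ hθC hθX g hlow v

end Main

end Groth.Agent.Vancyc.H678.P2
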