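import Groth.Prelude.Def_QuadSing

/-!
# Linear change of variables for coefficient tables of quadratic forms
-/

set_option autoImplicit false

universe u

namespace Groth.Agent.Vancyc.H678.P2Quad

open VanCyc Matrix

variable {R : Type u} [CommRing R] {N : ℕ}

/-- The polar form in terms of the quadratic form. -/
theorem polar_dotProduct (a : Fin N → Fin N → R) (v w : Fin N → R) :
    (polarMatrix a).mulVec v ⬝ᵥ w = quadEval a (v + w) - quadEval a v - quadEval a w := by
  have h1 : quadEval a (v + w) - quadEval a v - quadEval a w =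
      (∑ i : Fin N, ∑ j : Fin N, if i ≤ j then a i j * v i * w j else 0) +
        (∑ i : Fin N, ∑ j : Fin N, if i ≤ j then a i j * w i * v j else 0) := by
    simp only [quadEval, ← Finset.sum_sub_distrib, ← Finset.sum_add_distrib]
    refine Finset.sum_congr rfl fun i _ => Finset.sum_congr rfl fun j _ => ?_
    split_ifs
    · simp only [Pi.add_apply]; ring
    · ring
  have h2 : (∑ i : Fin N, ∑ j : Fin N, if i ≤ j then a i j * v i * w j else 0) =
      ∑ i : Fin N, ∑ j : Fin N, if j ≤ i then a j i * v j * w i else 0 := by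
    rw [Finset.sum_comm]
  rw [h1, h2, ← Finset.sum_add_distrib]
  simp only [dotProduct, mulVec, Finset.sum_mul]
  refine Finset.sum_congr rfl fun i _ => ?_
  rw [← Finset.sum_add_distrib]
  refine Finset.sum_congr rfl fun j _ => ?_
  unfold polarMatrix
  rcases lt_trichotomy i j with h | h | h
  · rw [if_neg h.ne, if_pos h, if_neg (not_le.2 h), if_pos h.le]; ring
  · subst h; simp only [if_true, le_refl]; ring
  · rw [if_neg h.ne', if_neg (not_lt.2 h.le), if_pos h.le, if_neg (not_le.2 h)]; ring

/-- If `Q' = Q ∘ T` as functions then the polar matrices are related by `T`. -/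
theorem polarMatrix_comp (a a' : Fin N → Fin N → R) (T : Matrix (Fin N) (Fin N) R)
    (h : ∀ v, quadEval a' v = quadEval a (T.mulVec v)) :
    polarMatrix a' = T.transpose * polarMatrix a * T := by
  have key : ∀ v w : Fin N → R, (polarMatrix a').mulVec v ⬝ᵥ w =
      ((T.transpose * polarMatrix a * T).mulVec v) ⬝ᵥ w := by
    intro v w
    have e : (T.transpose * polarMatrix a * T).mulVec v ⬝ᵥ w =
        (polarMatrix a).mulVec (T.mulVec v) ⬝ᵥ T.mulVec w := by
      rw [← mulVec_mulVec, ← mulVec_mulVec, mulVec_transpose, ← dotProduct_mulVec]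
    rw [e, polar_dotProduct, polar_dotProduct, h, h, h, mulVec_add]
  ext i j
  have := key (Pi.single j 1) (Pi.single i 1)
  simpa using this

/-- An ordinary form stays ordinary under an invertible change of variables. -/
theorem quadOrd_of_comp {k : Type u} [Field k] (a a' : Fin N → Fin N → k)
    (T : Matrix (Fin N) (Fin N) k) (hT : ∀ w, ∃ v, T.mulVec v = w)
    (h : ∀ v, quadEval a' v = quadEval a (T.mulVec v)) (ha' : QuadOrd a') : QuadOrd a := by
  intro w h1 h2
  obtain ⟨v, rfl⟩ := hT w
  have hv : v = 0 := by
    refine ha' v ((h v).trans h1) ?_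
    rw [polarMatrix_comp a a' T h, ← mulVec_mulVec, ← mulVec_mulVec, h2, mulVec_zero]
  rw [hv, mulVec_zero]

/-- If `Q ∘ T` is non-degenerate so is `Q`. -/
theorem quadNondeg_of_comp (a a' : Fin N → Fin N → R)
    (T : Matrix (Fin N) (Fin N) R)
    (h : ∀ v, quadEval a' v = quadEval a (T.mulVec v)) (ha' : QuadNondeg a') : QuadNondeg a := by
  unfold QuadNondeg at *
  rw [polarMatrix_comp a a' T h, det_mul, det_mul] at ha'
  exact isUnit_of_mul_isUnit_right (isUnit_of_mul_isUnit_left ha')

end Groth.Agent.Vancyc.H678.P2Quad
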