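import Groth.Agent.Vancyc.H678.TwistFam
import Groth.Agent.Ega2.H298.ProjExt

/-!
# The standard charts of a closed subscheme of projective space

For a closed immersion `i : Z ⟶ P^N_k` the opens `i⁻¹ D_+(T_q)` satisfy the chart condition `TwistFam.VChart` for
the sections `T_q` of `i^* O(1)`.
-/

set_option autoImplicit false
universe u
open CategoryTheory CategoryTheory.Limits AlgebraicGeometry TopologicalSpace Opposite

namespace Groth.Agent.Vancyc.H678.ProjChart

open Groth.Agent.Sga67.Sec Groth.Agent.Sga67.LocBasis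
open Groth.Agent.Vancyc.H678.KDim Groth.Agent.Vancyc.H678.TwistFam
open Groth.Agent.Ega2.H298.ProjRatio Groth.Agent.Ega2.H298.ProjExt

theorem isLocBasis_of_isGen {X : Scheme.{u}} {M : X.Modules} {U : X.Opens} {e : Sec M U}
    (he : Fdesc.LocGen.IsGen (M := M) (U := U) e) : IsLocBasis (fun _ : Fin 1 => e) := by
  intro V h
  have h1 : (comb (fun _ : Fin 1 => e) h : (Fin 1 → Γ(X, V)) → Sec M V) =
      (fun a : Γ(X, V) => a • res M h e) ∘ (Equiv.funUnique (Fin 1) Γ(X, V)) := by
    funext a
    rw [comb_apply, Fin.sum_univ_one]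
    rfl
  rw [h1]
  exact (he V h).comp (Equiv.bijective _)

/-- The coordinate `T_q` as an element of degree one. -/
noncomputable def X1 (k : Type u) [Field k] (N : ℕ) (q : Fin (N + 1)) : CohB1.polyGrading N k 1 :=
  ⟨MvPolynomial.X q, MvPolynomial.isHomogeneous_X k q⟩

variable {k : Type u} [Field k] {N : ℕ} {Z : Scheme.{u}} (i : Z ⟶ Proj (CohB1.polyGrading N k))

/-- The section `T_q` of `i^* O(1)`. -/
noncomputable def coordSec (q : Fin (N + 1)) :
    Sec ((Scheme.Modules.pullback i).obj (Twist.twist (CohB1.polyGrading N k) 1)) ⊤ :=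
  Fdesc.LocGen.sec (pull (CohB1.polyGrading N k) i (X1 k N q)) ⊤

theorem res_coordSec (q : Fin (N + 1)) (V : Z.Opens) :
    res _ (le_top : V ≤ ⊤) (coordSec i q) =
      Fdesc.LocGen.sec (pull (CohB1.polyGrading N k) i (X1 k N q)) V :=
  Fdesc.LocGen.res_sec _ _

theorem resHom_surjective [IsClosedImmersion i] (f : CohB1.polyGrading N k 1) :
    Function.Surjective (resHom (CohB1.polyGrading N k) i f
      (le_refl (i ⁻¹ᵁ Proj.basicOpen (CohB1.polyGrading N k) f.1))) := by
  have hU : IsAffineOpen (Proj.basicOpen (CohB1.polyGrading N k) f.1) :=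
    Proj.isAffineOpen_basicOpen _ f.1 f.2 Nat.one_pos
  have h1 : Function.Surjective (i.appLE (Proj.basicOpen (CohB1.polyGrading N k) f.1)
      (i ⁻¹ᵁ Proj.basicOpen (CohB1.polyGrading N k) f.1) le_rfl) := by
    have h2 := i.app_surjective _ hU
    rw [Scheme.Hom.app_eq_appLE] at h2
    exact h2
  have h3 : Function.Surjective (Proj.awayToSection (CohB1.polyGrading N k) f.1) :=
    (Proj.basicOpenIsoAway (CohB1.polyGrading N k) f.1 f.2 Nat.one_pos).commRingCatIsoToRingEquiv.surjective
  exact h1.comp h3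

theorem vchart [IsClosedImmersion i] (q₀ : Fin (N + 1)) :
    VChart (i ≫ Proj.toSpecZero (CohB1.polyGrading N k) ≫
      Spec.map (CommRingCat.ofHom (algebraMap k (CohB1.polyGrading N k 0)))) (coordSec i) q₀
      (i ⁻¹ᵁ Proj.basicOpen (CohB1.polyGrading N k) (MvPolynomial.X q₀)) := by
  have hU : IsAffineOpen (Proj.basicOpen (CohB1.polyGrading N k) (MvPolynomial.X q₀)) :=
    Proj.isAffineOpen_basicOpen _ _ (X1 k N q₀).2 Nat.one_pos
  let V : Z.Opens := i ⁻¹ᵁ Proj.basicOpen (CohB1.polyGrading N k) (MvPolynomial.X q₀)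
  let f := X1 k N q₀
  let x : Fin (N + 1) → Γ(Z, V) := fun q =>
    resHom (CohB1.polyGrading N k) i f le_rfl (frac (CohB1.polyGrading N k) f (X1 k N q))
  refine ⟨hU.preimage i, ?_, x, ?_, ?_, ?_⟩
  · refine isLocBasis_of_isGen ?_
    rw [res_coordSec]
    exact isGen_pull (CohB1.polyGrading N k) i f
  · have : frac (CohB1.polyGrading N k) f f = 1 := by
      apply HomogeneousLocalization.val_injective
      rw [frac, HomogeneousLocalization.Away.val_mk, HomogeneousLocalization.val_one,
        ← Localization.mk_self (⟨f.1 ^ 1, ⟨1, rfl⟩⟩ : Submonoid.powers f.1)]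
      congr 1
      exact (pow_one _).symm
    change resHom (CohB1.polyGrading N k) i f le_rfl (frac (CohB1.polyGrading N k) f f) = 1
    rw [this, map_one]
  · intro q
    rw [res_coordSec, res_coordSec]
    exact sec_pull_eq_resHom_smul (CohB1.polyGrading N k) i f le_rfl (X1 k N q)
  · intro g
    obtain ⟨y, rfl⟩ := resHom_surjective i f g
    obtain ⟨a, rfl⟩ := deh_surjective (CohB1.polyGrading N k) f y
    refine ⟨a, ?_⟩
    have h1 : (MvPolynomial.eval₂Hom (str (i ≫ Proj.toSpecZero (CohB1.polyGrading N k) ≫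
        Spec.map (CommRingCat.ofHom (algebraMap k (CohB1.polyGrading N k 0)))) V) x) =
        (resHom (CohB1.polyGrading N k) i f le_rfl).comp (deh (CohB1.polyGrading N k) f) := by
      apply MvPolynomial.ringHom_ext
      · intro r
        rw [MvPolynomial.coe_eval₂Hom, MvPolynomial.eval₂_C]
        have h2 := deh_algebraMap (CohB1.polyGrading N k) f r
        rw [MvPolynomial.algebraMap_eq] at h2
        have h3 := resHom_algebraMap (CohB1.polyGrading N k) i f (le_refl
          (i ⁻¹ᵁ Proj.basicOpen (CohB1.polyGrading N k) f.1)) r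
        rw [← h2] at h3
        exact h3.symm
      · intro q
        rw [MvPolynomial.coe_eval₂Hom, MvPolynomial.eval₂_X]
        have h2 := deh_frac (CohB1.polyGrading N k) f (X1 k N q)
        change x q = resHom (CohB1.polyGrading N k) i f le_rfl (deh (CohB1.polyGrading N k) f (X1 k N q).1)
        rw [h2]
    exact RingHom.congr_fun h1 a

end Groth.Agent.Vancyc.H678.ProjChart
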