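import Groth.Agent.Vancyc.H678.GenSimple
import Groth.Agent.Vancyc.H678.KDim
import Groth.Agent.Sga67.LocBasisStalk
import Mathlib.Algebra.MvPolynomial.Funext

/-!
# Generic simple zeros of `k`-linear combinations of maps `E ⟶ O_Z`

`Z` integral of dimension `m`, of finite type over the algebraically closed field `k`, `t l : E ⟶ O_Z` finitely many
maps, `E` of rank `m`.  If around every point there is an affine chart on which `m` of the `t l` form the dual basis
of a basis `e` of `E` and the `x_q e_i^*` are among the `t l`, for functions `x_q` generating the function field, then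
the generic combination `∑ c_l t l` has finitely many zeros, all simple.
-/

set_option autoImplicit false
universe u
open CategoryTheory CategoryTheory.Limits AlgebraicGeometry TopologicalSpace Opposite

namespace Groth.Agent.Vancyc.H678.SimpleGen

open Groth.Agent.Sga67.Sec Groth.Agent.Sga67.LocBasis Groth.Agent.Sga67.LocBasisStalk
open Groth.Agent.Vancyc.H678.KDim

variable {Z : Scheme.{u}} {E : Z.Modules}

/-- the ideal of `O_{Z,z}` generated by the germs at `z` of the values of `t : E ⟶ O_Z` -/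
noncomputable def zI (t : E ⟶ Coh.structureModule Z) (z : Z) : Ideal (Z.presheaf.stalk z) :=
  Ideal.span {b | ∃ (U : Z.Opens) (hz : z ∈ U) (s : Γ(E, U)), b = Z.presheaf.germ U z hz (t.app U s)}

theorem zI_eq (t : E ⟶ Coh.structureModule Z) {U : Z.Opens} {κ : Type*} [Fintype κ] {e : κ → Sec E U}
    (he : IsLocBasis e) (z : Z) (hz : z ∈ U) :
    zI t z = Ideal.span (Set.range fun i => gerO z hz (toO (appS t U (e i)))) := by
  apply le_antisymm
  · rw [zI, Ideal.span_le]
    rintro _ ⟨V, hzV, (s : Sec E V), rfl⟩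
    have hzW : z ∈ U ⊓ V := ⟨hz, hzV⟩
    obtain ⟨a, ha⟩ := (he (U ⊓ V) inf_le_left).2 (res E (inf_le_right : U ⊓ V ≤ V) s)
    have h1 : Z.presheaf.germ V z hzV (t.app V s) =
        gerO z hzW (toO (appS t (U ⊓ V) (res E (inf_le_right : U ⊓ V ≤ V) s))) := by
      refine (gerO_res (inf_le_right : U ⊓ V ≤ V) z hzW (toO (appS t V s))).symm.trans ?_
      exact congrArg (fun x => gerO z hzW (toO x)) (appS_res t (inf_le_right : U ⊓ V ≤ V) s).symm
    rw [SetLike.mem_coe, h1, ← ha, comb_apply, map_sum]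
    have h2 : ∀ S : Finset κ, gerO z hzW (toO (∑ i ∈ S, appS t (U ⊓ V)
        (a i • res E (inf_le_left : U ⊓ V ≤ U) (e i)))) ∈
        Ideal.span (Set.range fun i => gerO z hz (toO (appS t U (e i)))) := by
      classical
      intro S
      induction S using Finset.induction_on with
      | empty =>
        rw [Finset.sum_empty, toO_zero]
        have : gerO z hzW (0 : Γ(Z, U ⊓ V)) = 0 := map_zero (Z.presheaf.germ _ z hzW).hom
        rw [this]
        exact Ideal.zero_mem _
      | insert i S hi ih =>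
        rw [Finset.sum_insert hi, toO_add]
        have h3 : gerO z hzW (toO (appS t (U ⊓ V) (a i • res E (inf_le_left : U ⊓ V ≤ U) (e i))) +
            toO (∑ i ∈ S, appS t (U ⊓ V) (a i • res E (inf_le_left : U ⊓ V ≤ U) (e i)))) =
            gerO z hzW (a i) * gerO z hz (toO (appS t U (e i))) +
            gerO z hzW (toO (∑ i ∈ S, appS t (U ⊓ V) (a i • res E (inf_le_left : U ⊓ V ≤ U) (e i)))) := by
          rw [map_smul, toO_smul, appS_res, toO_res, ← gerO_res (inf_le_left : U ⊓ V ≤ U) z hzW]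
          exact (map_add (Z.presheaf.germ _ z hzW).hom _ _).trans
            (congrArg₂ (· + ·) (map_mul (Z.presheaf.germ _ z hzW).hom _ _) rfl)
        rw [h3]
        exact Ideal.add_mem _ (Ideal.mul_mem_left _ _ (Ideal.subset_span ⟨i, rfl⟩)) ih
    exact h2 Finset.univ
  · rw [Ideal.span_le]
    rintro _ ⟨i, rfl⟩
    exact Ideal.subset_span ⟨U, hz, e i, rfl⟩

/-- A function as a section of the structure module. -/
def ofO {V : Z.Opens} (a : Γ(Z, V)) : Sec (Coh.structureModule Z) V := a

theorem toO_ofO {V : Z.Opens} (a : Γ(Z, V)) : toO (ofO a) = a := rfl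

variable {k : Type u} [Field k] (p : Z ⟶ Spec (CommRingCat.of k)) {Λ : Type} [Fintype Λ]
  (t : Λ → (E ⟶ Coh.structureModule Z))

/-- The `k`-linear combination `∑ c_l t l`. -/
noncomputable def lin (c : Λ → k) : E ⟶ Coh.structureModule Z :=
  ∑ l, t l ≫ homUnit (Coh.structureModule Z) (ofO (str p ⊤ (c l)))

theorem toO_sum {V : Z.Opens} {κ : Type*} (S : Finset κ) (s : κ → Sec (Coh.structureModule Z) V) :
    toO (∑ i ∈ S, s i) = ∑ i ∈ S, toO (s i) := by
  classical
  induction S using Finset.induction_on with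
  | empty => rfl
  | insert i S hi ih => rw [Finset.sum_insert hi, Finset.sum_insert hi, toO_add, ih]

theorem toO_lin (c : Λ → k) (V : Z.Opens) (s : Sec E V) :
    toO (appS (lin p t c) V s) = ∑ l, str p V (c l) * toO (appS (t l) V s) := by
  rw [lin, appS_sum, toO_sum]
  refine Finset.sum_congr rfl fun l _ => ?_
  rw [appS_comp, homUnit_apply, toO_smul, mul_comm, toO_res, toO_ofO, resO_str]

/-- A chart: `U` affine, `m` of the `t l` are the dual basis of a basis of `E|_U`, and the `x_q e_i^*` are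
among the `t l` for functions `x_q` generating the function field. -/
structure Chart (m : ℕ) (U : Z.Opens) : Prop where
  affine : IsAffineOpen U
  data : ∃ (e : Fin m → Sec E U) (σ : Fin m → Λ) (κ : Type) (x : κ → Γ(Z, U)), IsLocBasis e ∧
    (∀ i j, toO (appS (t (σ i)) U (e j)) = (Pi.single i 1 : Fin m → Γ(Z, U)) j) ∧
    (∀ q i, ∃ l, ∀ j, toO (appS (t l) U (e j)) = (Pi.single i (x q) : Fin m → Γ(Z, U)) j) ∧
    ∀ f : Γ(Z, U), ∃ a b : MvPolynomial κ k, MvPolynomial.eval₂ (str p U) x b ≠ 0 ∧
      MvPolynomial.eval₂ (str p U) x b * f = MvPolynomial.eval₂ (str p U) x a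

variable {p t} in
theorem Chart.exists_poly [IsAlgClosed k] [IsIntegral Z] [LocallyOfFiniteType p] {m : ℕ}
    (hm : topologicalKrullDim Z = m) {U : Z.Opens} (hU : Chart p t m U) (hUn : (U : Set Z).Nonempty) :
    ∃ h : MvPolynomial Λ k, h ≠ 0 ∧ ∀ c : Λ → k, MvPolynomial.eval c h ≠ 0 →
      {z : Z | z ∈ U ∧ zI (lin p t c) z ≠ ⊤}.Finite ∧
      ∀ (z : Z) (hz : z ∈ U), zI (lin p t c) z ≠ ⊤ →
        IsRegularLocalRing (Z.presheaf.stalk z) ∧
        zI (lin p t c) z = IsLocalRing.maximalIdeal (Z.presheaf.stalk z) ∧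
        (hU.affine.primeIdealOf ⟨z, hz⟩).asIdeal.IsMaximal := by
  classical
  have hne : Nonempty U := hUn.to_subtype
  obtain ⟨e, σ, κ, x, he, hσ, hx, hgen⟩ := hU.data
  let R := Γ(Z, U)
  let iR : Algebra k R := (str p U).toAlgebra
  have hft : Algebra.FiniteType k R := finiteType_str p hU.affine
  let F := FractionRing R
  let v : Λ → Fin m → R := fun l j => toO (appS (t l) U (e j))
  have hgen' : IntermediateField.adjoin k (Set.range fun q => algebraMap R F (x q)) = ⊤ := by
    rw [eq_top_iff]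
    intro y _
    have h1 : ∀ a : MvPolynomial κ k, algebraMap R F (MvPolynomial.eval₂ (str p U) x a) ∈
        IntermediateField.adjoin k (Set.range fun q => algebraMap R F (x q)) := by
      intro a
      induction a using MvPolynomial.induction_on with
      | C r =>
        rw [MvPolynomial.eval₂_C]
        have : algebraMap R F (str p U r) = algebraMap k F r :=
          (IsScalarTower.algebraMap_apply k R F r).symm
        rw [this]
        exact IntermediateField.algebraMap_mem _ _
      | add a b ha hb => rw [MvPolynomial.eval₂_add, map_add]; exact add_mem ha hb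
      | mul_X a q ha =>
        rw [MvPolynomial.eval₂_mul, MvPolynomial.eval₂_X, map_mul]
        exact mul_mem ha (IntermediateField.subset_adjoin _ _ ⟨q, rfl⟩)
    have h2 : ∀ f : R, algebraMap R F f ∈
        IntermediateField.adjoin k (Set.range fun q => algebraMap R F (x q)) := by
      intro f
      obtain ⟨a, b, hb, hab⟩ := hgen f
      have h3 : algebraMap R F (MvPolynomial.eval₂ (str p U) x b) ≠ 0 := by
        rw [Ne, map_eq_zero_iff _ (IsFractionRing.injective R F)]
        exact hb
      have h4 : algebraMap R F f = algebraMap R F (MvPolynomial.eval₂ (str p U) x a) /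
          algebraMap R F (MvPolynomial.eval₂ (str p U) x b) := by
        rw [eq_div_iff h3, ← map_mul, mul_comm f, hab]
      rw [h4]
      exact div_mem (h1 _) (h1 _)
    obtain ⟨a, b, hb, rfl⟩ := IsFractionRing.div_surjective (A := R) y
    exact div_mem (h2 _) (h2 _)
  have hdim : ringKrullDim R = Fintype.card (Fin m) := by
    rw [Fintype.card_fin]
    exact ringKrullDim_eq p hm hU.affine hUn
  obtain ⟨h, hh0, hh⟩ := GenSimple.exists_poly (k := k) (R := R) hdim F v σ
    (fun i => funext fun j => hσ i j) x (fun q i => by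
      obtain ⟨l, hl⟩ := hx q i
      exact ⟨l, funext hl⟩) hgen'
  refine ⟨h, hh0, fun c hc => ?_⟩
  let f : Fin m → R := fun i => ∑ l, algebraMap k R (c l) * v l i
  have hunr : Algebra.FormallyUnramified k (R ⧸ Ideal.span (Set.range f)) := hh c hc
  have hf : ∀ i, toO (appS (lin p t c) U (e i)) = f i := fun i => toO_lin p t c U (e i)
  have hzI : ∀ (z : Z) (hz : z ∈ U), zI (lin p t c) z =
      Ideal.span (Set.range fun i => gerO z hz (f i)) := by
    intro z hz
    rw [zI_eq (lin p t c) he z hz]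
    simp only [hf]
  have hq : ∀ (z : Z) (hz : z ∈ U), zI (lin p t c) z ≠ ⊤ →
      Ideal.span (Set.range f) ≤ (hU.affine.primeIdealOf ⟨z, hz⟩).asIdeal := by
    intro z hz hzt
    by_contra hcon
    refine hzt ?_
    let iS : Algebra R (Z.presheaf.stalk z) := TopCat.Presheaf.algebra_section_stalk Z.presheaf ⟨z, hz⟩
    have hloc : IsLocalization.AtPrime (Z.presheaf.stalk z) (hU.affine.primeIdealOf ⟨z, hz⟩).asIdeal :=
      hU.affine.isLocalization_stalk ⟨z, hz⟩
    rw [hzI z hz]
    exact GenSimple.span_eq_top f (hU.affine.primeIdealOf ⟨z, hz⟩).asIdeal hcon (Z.presheaf.stalk z)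
  refine ⟨?_, fun z hz hzt => ?_⟩
  · have h1 := GenSimple.finite_primes (k := k) (Ideal.span (Set.range f))
    refine Set.Finite.of_finite_image (f := fun z : Z => if hz : z ∈ U then
      hU.affine.primeIdealOf ⟨z, hz⟩ else hU.affine.primeIdealOf hne.some) (h1.subset ?_) ?_
    · rintro _ ⟨z, ⟨hz, hzt⟩, rfl⟩
      simp only [hz, dif_pos]
      exact hq z hz hzt
    · rintro z ⟨hz, hzt⟩ z' ⟨hz', hzt'⟩ hzz'
      simp only [hz, hz', dif_pos] at hzz'
      have h2 := congrArg (fun q => hU.affine.fromSpec q) hzz'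
      simp only [IsAffineOpen.fromSpec_primeIdealOf] at h2
      exact h2
  · let iS : Algebra R (Z.presheaf.stalk z) := TopCat.Presheaf.algebra_section_stalk Z.presheaf ⟨z, hz⟩
    have hloc : IsLocalization.AtPrime (Z.presheaf.stalk z) (hU.affine.primeIdealOf ⟨z, hz⟩).asIdeal :=
      hU.affine.isLocalization_stalk ⟨z, hz⟩
    obtain ⟨h1, h2⟩ := GenSimple.regular_and_span_eq (k := k) f hdim
      (hU.affine.primeIdealOf ⟨z, hz⟩).asIdeal (hq z hz hzt) (Z.presheaf.stalk z)
    refine ⟨h1, ?_, ?_⟩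
    · rw [hzI z hz]
      exact h2
    · exact GenSimple.isMaximal_of_le (k := k) (Ideal.span (Set.range f)) inferInstance (hq z hz hzt)

/-- Main generic statement. -/
theorem exists_simple [IsAlgClosed k] [IsIntegral Z] [LocallyOfFiniteType p] [CompactSpace Z] {m : ℕ}
    (hm : topologicalKrullDim Z = m) (hchart : ∀ z : Z, ∃ U : Z.Opens, z ∈ U ∧ Chart p t m U) :
    ∃ (c : Λ → k) (F : Finset Z),
      (∀ z ∈ F, IsClosed {z} ∧ IsRegularLocalRing (Z.presheaf.stalk z) ∧
        zI (lin p t c) z = IsLocalRing.maximalIdeal (Z.presheaf.stalk z)) ∧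
      ∀ z ∉ F, zI (lin p t c) z = ⊤ := by
  classical
  choose U hzU hU using hchart
  obtain ⟨T, hT⟩ := CompactSpace.elim_nhds_subcover (fun z => (U z : Set Z))
    (fun z => (U z).isOpen.mem_nhds (hzU z))
  have hT' : ∀ z : Z, ∃ w ∈ T, z ∈ U w := by
    intro z
    have h1 : z ∈ ⋃ x ∈ T, (U x : Set Z) := by rw [hT]; trivial
    simp only [Set.mem_iUnion] at h1
    obtain ⟨w, hw, hz⟩ := h1
    exact ⟨w, hw, hz⟩
  choose h hh0 hh using fun z => (hU z).exists_poly hm ⟨z, hzU z⟩
  obtain ⟨c, hc⟩ : ∃ c : Λ → k, MvPolynomial.eval c (∏ z ∈ T, h z) ≠ 0 := by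
    by_contra hcon
    push Not at hcon
    have h1 : (∏ z ∈ T, h z) = 0 := MvPolynomial.funext fun c => by rw [hcon c, map_zero]
    exact (Finset.prod_ne_zero_iff.2 fun z _ => hh0 z) h1
  have hc' : ∀ w ∈ T, MvPolynomial.eval c (h w) ≠ 0 := by
    rw [map_prod, Finset.prod_ne_zero_iff] at hc
    exact hc
  have hfin : {z : Z | zI (lin p t c) z ≠ ⊤}.Finite := by
    refine (T.finite_toSet.biUnion (t := fun w => {z : Z | z ∈ U w ∧ zI (lin p t c) z ≠ ⊤})
      fun w hw => (hh w c (hc' w hw)).1).subset ?_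
    intro z hz
    obtain ⟨w, hw, hzw⟩ := hT' z
    exact Set.mem_biUnion hw ⟨hzw, hz⟩
  refine ⟨c, hfin.toFinset, fun z hz => ?_, fun z hz => ?_⟩
  · rw [Set.Finite.mem_toFinset] at hz
    obtain ⟨w, hw, hzw⟩ := hT' z
    obtain ⟨h1, h2, -⟩ := (hh w c (hc' w hw)).2 z hzw hz
    refine ⟨?_, h1, h2⟩
    rw [← closure_subset_iff_isClosed]
    intro z' hz'
    obtain ⟨w', hw', hzw'⟩ := hT' z'
    have hsp : z ⤳ z' := specializes_iff_mem_closure.2 hz'
    have hzU' : z ∈ U w' := hsp.mem_open (U w').isOpen hzw'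
    obtain ⟨-, -, h3⟩ := (hh w' c (hc' w' hw')).2 z hzU' hz
    let q := (hU w').affine.primeIdealOf ⟨z, hzU'⟩
    let q' := (hU w').affine.primeIdealOf ⟨z', hzw'⟩
    have hq1 : (hU w').affine.fromSpec q = z := (hU w').affine.fromSpec_primeIdealOf ⟨z, hzU'⟩
    have hq2 : (hU w').affine.fromSpec q' = z' := (hU w').affine.fromSpec_primeIdealOf ⟨z', hzw'⟩
    have h4 : q ⤳ q' :=
      (hU w').affine.fromSpec.isOpenEmbedding.isInducing.specializes_iff.1 (by
        rw [hq1, hq2]; exact hsp)
    have h5 : q.asIdeal ≤ q'.asIdeal := (PrimeSpectrum.le_iff_specializes q q').2 h4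
    have h6 : q = q' := PrimeSpectrum.ext (h3.eq_of_le q'.2.ne_top h5)
    rw [Set.mem_singleton_iff, ← hq1, ← hq2, h6]
  · rw [Set.Finite.mem_toFinset] at hz
    by_contra hcon
    exact hz hcon

end Groth.Agent.Vancyc.H678.SimpleGen
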