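import Groth.Agent.Vancyc.H678.SimpleGen
import Groth.Agent.Vancyc.H678.GenFam

/-!
# Charts for the family `τ_q s_a : G ⊗ Q ⟶ O`

`L` an invertible module with sections `τ_q` which define a closed immersion into projective space on the charts,
`s_a : G ⟶ D` a family generating `Hom(G, D)`, `(D ⊗ L) ⊗ Q ≅ O`: the maps
`g ⊗ q ↦ (s_a g ⊗ τ_q) ⊗ q` satisfy the chart condition of `SimpleGen.exists_simple`.
-/

set_option autoImplicit false
universe u
open CategoryTheory CategoryTheory.Limits AlgebraicGeometry TopologicalSpace Opposite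
open scoped TensorProduct

namespace Groth.Agent.Vancyc.H678.TwistFam

open Groth.Agent.Sga67.Sec Groth.Agent.Sga67.LocBasis
open Groth.Agent.Vancyc.H678.KDim Groth.Agent.Vancyc.H678.SimpleGen Groth.Agent.Vancyc.H678.GenFam
open Groth.Agent.Krr.H463.HomTensor (allBasis)

variable {Z : Scheme.{u}} {G D L P Q : Z.Modules}

/-- multiplication by a section of `L` -/
theorem exists_mulSec (s : G ⟶ D) (τ : Sec L ⊤) : ∃ f : G ⟶ CohB1.tensorMod D L,
    ∀ (U : Z.Opens) (g : Sec G U),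
      appS f U g = tau D L U (appS s U g ⊗ₜ[Γ(Z, U)] res L (le_top : U ≤ ⊤) τ) := by
  obtain ⟨f, hf⟩ := exists_hom_of_basis' (allBasis Z) G (CohB1.tensorMod D L)
    (fun U => (tau D L U) ∘ₗ ((TensorProduct.mk Γ(Z, U) (Sec D U) (Sec L U)).flip
      (res L (le_top : U ≤ ⊤) τ)) ∘ₗ appS s U)
    (by
      intro U V h g
      simp only [LinearMap.comp_apply, LinearMap.flip_apply, TensorProduct.mk_apply]
      rw [appS_res, ← res_res L (le_top : U ≤ ⊤) h, ← tres_tmul, tau_tres])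
  exact ⟨f, fun U g => hf U g⟩

/-- contraction of the first factor -/
theorem exists_con (s : G ⟶ P) (κ : CohB1.tensorMod P Q ⟶ Coh.structureModule Z) :
    ∃ f : CohB1.tensorMod G Q ⟶ Coh.structureModule Z, ∀ (U : Z.Opens) (g : Sec G U) (q : Sec Q U),
      appS f U (tau G Q U (g ⊗ₜ[Γ(Z, U)] q)) = appS κ U (tau P Q U (appS s U g ⊗ₜ[Γ(Z, U)] q)) := by
  obtain ⟨f, hf⟩ := exists_tensor_hom (allBasis Z) G Q (Coh.structureModule Z)
    (fun U => (appS κ U) ∘ₗ (tau P Q U) ∘ₗ (appS s U).rTensor (Sec Q U))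
    (by
      intro U V h g q
      simp only [LinearMap.comp_apply, LinearMap.rTensor_tmul]
      rw [appS_res, ← tres_tmul, tau_tres, appS_res])
  refine ⟨f, fun U g q => ?_⟩
  rw [hf U]
  simp only [LinearMap.comp_apply, LinearMap.rTensor_tmul]

theorem exists_T (s : G ⟶ D) (τ : Sec L ⊤)
    (κ : CohB1.tensorMod (CohB1.tensorMod D L) Q ⟶ Coh.structureModule Z) :
    ∃ f : CohB1.tensorMod G Q ⟶ Coh.structureModule Z, ∀ (U : Z.Opens) (g : Sec G U) (q : Sec Q U),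
      appS f U (tau G Q U (g ⊗ₜ[Γ(Z, U)] q)) = appS κ U (tau (CohB1.tensorMod D L) Q U
        (tau D L U (appS s U g ⊗ₜ[Γ(Z, U)] res L (le_top : U ≤ ⊤) τ) ⊗ₜ[Γ(Z, U)] q)) := by
  obtain ⟨f, hf⟩ := exists_mulSec s τ
  obtain ⟨f', hf'⟩ := exists_con f κ
  refine ⟨f', fun U g q => ?_⟩
  rw [hf', hf]

/-- `g ⊗ q ↦ (s g ⊗ τ) ⊗ q` -/
noncomputable def T (s : G ⟶ D) (τ : Sec L ⊤)
    (κ : CohB1.tensorMod (CohB1.tensorMod D L) Q ⟶ Coh.structureModule Z) :
    CohB1.tensorMod G Q ⟶ Coh.structureModule Z := (exists_T s τ κ).choose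

theorem appS_T (s : G ⟶ D) (τ : Sec L ⊤)
    (κ : CohB1.tensorMod (CohB1.tensorMod D L) Q ⟶ Coh.structureModule Z) (U : Z.Opens) (g : Sec G U)
    (q : Sec Q U) : appS (T s τ κ) U (tau G Q U (g ⊗ₜ[Γ(Z, U)] q)) =
      appS κ U (tau (CohB1.tensorMod D L) Q U
        (tau D L U (appS s U g ⊗ₜ[Γ(Z, U)] res L (le_top : U ≤ ⊤) τ) ⊗ₜ[Γ(Z, U)] q)) :=
  (exists_T s τ κ).choose_spec U g q

theorem isLocBasis_tensor_one {M N : Z.Modules} {U : Z.Opens} {κ : Type*} [Fintype κ] {b : κ → Sec M U}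
    (hb : IsLocBasis b) {n : Sec N U} (hn : IsLocBasis (fun _ : Fin 1 => n)) :
    IsLocBasis (M := CohB1.tensorMod M N) (fun i : κ => tau M N U (b i ⊗ₜ[Γ(Z, U)] n)) :=
  (isLocBasis_tensor hb hn).reindex (Equiv.prodUnique κ (Fin 1)).symm

theorem isUnit_of_isLocBasis {U : Z.Opens} {s : Sec (Coh.structureModule Z) U}
    (hs : IsLocBasis (fun _ : Fin 1 => s)) : IsUnit (toO s) := by
  obtain ⟨a, ha⟩ := (hs U le_rfl).2 (one Z U)
  rw [comb_apply, Fin.sum_univ_one, res_self] at ha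
  have h1 := congrArg toO ha
  rw [toO_smul, toO_one] at h1
  exact IsUnit.of_mul_eq_one_right _ h1

theorem toO_app_smul (κ : CohB1.tensorMod (CohB1.tensorMod D L) Q ⟶ Coh.structureModule Z) {W : Z.Opens}
    (r : Γ(Z, W)) (d : Sec D W) (ℓ : Sec L W) (q : Sec Q W) :
    toO (appS κ W (tau (CohB1.tensorMod D L) Q W
      (tau D L W (d ⊗ₜ[Γ(Z, W)] (r • ℓ)) ⊗ₜ[Γ(Z, W)] q))) =
    r * toO (appS κ W (tau (CohB1.tensorMod D L) Q W
      (tau D L W (d ⊗ₜ[Γ(Z, W)] ℓ) ⊗ₜ[Γ(Z, W)] q))) := by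
  rw [TensorProduct.tmul_smul, map_smul, ← TensorProduct.smul_tmul', map_smul, map_smul, toO_smul]

variable {k : Type u} [Field k] (p : Z ⟶ Spec (CommRingCat.of k)) {κ₀ : Type}

/-- `V` is an affine open on which `τ q₀` generates `L` and the ratios `τ q / τ q₀` generate the `k`-algebra of
functions. -/
def VChart (τ : κ₀ → Sec L ⊤) (q₀ : κ₀) (V : Z.Opens) : Prop :=
  IsAffineOpen V ∧ IsLocBasis (fun _ : Fin 1 => res L (le_top : V ≤ ⊤) (τ q₀)) ∧
    ∃ x : κ₀ → Γ(Z, V), x q₀ = 1 ∧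
      (∀ q, res L (le_top : V ≤ ⊤) (τ q) = x q • res L (le_top : V ≤ ⊤) (τ q₀)) ∧
      ∀ f : Γ(Z, V), ∃ a : MvPolynomial κ₀ k, MvPolynomial.eval₂ (str p V) x a = f

theorem resO_eval₂ {U V : Z.Opens} (h : V ≤ U) (x : κ₀ → Γ(Z, U)) (a : MvPolynomial κ₀ k) :
    resO Z h (MvPolynomial.eval₂ (str p U) x a) =
      MvPolynomial.eval₂ (str p V) (fun q => resO Z h (x q)) a := by
  rw [MvPolynomial.eval₂_comp_left]
  congr 1
  ext r
  rw [RingHom.comp_apply, resO_str]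

theorem chart [IsIntegral Z] {m : ℕ} {A : Type} [Fintype A] [Fintype κ₀] (s : A → (G ⟶ D))
    (τ : κ₀ → Sec L ⊤)
    (κ : CohB1.tensorMod (CohB1.tensorMod D L) Q ≅ Coh.structureModule Z)
    (hQ : FlatMod.IsFinLocFreeOfRank 1 Q) {z : Z} {V : Z.Opens} (hzV : z ∈ V) {q₀ : κ₀}
    (hV : VChart p τ q₀ V) (hs : GenAt m s z) :
    ∃ U : Z.Opens, z ∈ U ∧ Chart p (fun l : κ₀ × A => T (s l.2) (τ l.1) κ.hom) m U := by
  classical
  obtain ⟨hVaff, hℓ, x, hx0, hx, hsurj⟩ := hV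
  obtain ⟨U₁, hz₁, d, e, α, hd, he, hse⟩ := hs
  rw [GenFam.isFinLocFreeOfRank_iff] at hQ
  obtain ⟨U₂, hz₂, q₂, hq₂⟩ := hQ z
  obtain ⟨g, hgU, hgz⟩ := hVaff.exists_basicOpen_le (V := U₁ ⊓ U₂) ⟨z, ⟨hz₁, hz₂⟩⟩ hzV
  let W : Z.Opens := Z.basicOpen g
  have hWV : W ≤ V := Z.basicOpen_le g
  have hW1 : W ≤ U₁ := hgU.trans inf_le_left
  have hW2 : W ≤ U₂ := hgU.trans inf_le_right
  have hWaff : IsAffineOpen W := hVaff.basicOpen g
  have hWne : Nonempty W := ⟨⟨z, hgz⟩⟩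
  let ℓ : Sec L W := res L (le_top : W ≤ ⊤) (τ q₀)
  have hℓ' : IsLocBasis (fun _ : Fin 1 => ℓ) := by
    have := hℓ.restrict hWV
    simpa only [res_res] using this
  have hd' : IsLocBasis (fun _ : Fin 1 => res D hW1 d) := hd.restrict hW1
  have he' : IsLocBasis (fun i => res G hW1 (e i)) := he.restrict hW1
  let q' : Sec Q W := res Q hW2 (q₂ 0)
  have hq' : IsLocBasis (fun _ : Fin 1 => q') := by
    have := hq₂.restrict hW2
    convert this using 2 with i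
    rw [Subsingleton.elim i 0]
  have h1 : IsLocBasis (M := CohB1.tensorMod D L)
      (fun _ : Fin 1 => tau D L W (res D hW1 d ⊗ₜ[Γ(Z, W)] ℓ)) := isLocBasis_tensor_one hd' hℓ'
  have h2 := (isLocBasis_tensor_one h1 hq').of_iso κ
  obtain ⟨u, hu⟩ := isUnit_of_isLocBasis h2
  let q : Sec Q W := ((↑u⁻¹ : Γ(Z, W)) : Γ(Z, W)) • q'
  have hq : IsLocBasis (fun _ : Fin 1 => q) := by
    have := isLocBasis_matrix hq' (Matrix.of fun _ _ => (↑u⁻¹ : Γ(Z, W)))
      (Matrix.of fun _ _ => (↑u : Γ(Z, W)))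
      (by ext i j; rw [Subsingleton.elim i 0, Subsingleton.elim j 0]; simp [Matrix.mul_apply])
      (by ext i j; rw [Subsingleton.elim i 0, Subsingleton.elim j 0]; simp [Matrix.mul_apply])
    simpa using this
  have hone : toO (appS κ.hom W (tau (CohB1.tensorMod D L) Q W
      (tau D L W (res D hW1 d ⊗ₜ[Γ(Z, W)] ℓ) ⊗ₜ[Γ(Z, W)] q))) = 1 := by
    rw [TensorProduct.tmul_smul, map_smul, map_smul, toO_smul, ← hu, Units.inv_mul]
  have key : ∀ (a : κ₀) (i j : Fin m),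
      toO (appS (T (s (α i)) (τ a) κ.hom) W (tau G Q W (res G hW1 (e j) ⊗ₜ[Γ(Z, W)] q))) =
        (Pi.single i (resO Z hWV (x a)) : Fin m → Γ(Z, W)) j := by
    intro a i j
    rw [appS_T, appS_res, hse i j, Pi.single_apply]
    have h3 : res L (le_top : W ≤ ⊤) (τ a) = resO Z hWV (x a) • ℓ := by
      have := congrArg (res L hWV) (hx a)
      rw [res_smul, res_res, res_res] at this
      exact this
    rw [h3]
    simp only [eq_comm (a := j)]
    split_ifs with hij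
    · exact (toO_app_smul κ.hom _ _ _ _).trans (by rw [hone, mul_one])
    · rw [map_zero, TensorProduct.zero_tmul, map_zero, TensorProduct.zero_tmul, map_zero, map_zero,
        toO_zero]
  refine ⟨W, hgz, hWaff, fun j => tau G Q W (res G hW1 (e j) ⊗ₜ[Γ(Z, W)] q), fun i => (q₀, α i), κ₀,
    fun a => resO Z hWV (x a), isLocBasis_tensor_one he' hq, ?_, ?_, ?_⟩
  · intro i j
    have := key q₀ i j
    rw [hx0, map_one] at this
    exact this
  · intro a i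
    exact ⟨(a, α i), fun j => key a i j⟩
  · intro f
    let iW : Algebra Γ(Z, V) Γ(Z, W) := (resO Z hWV).toAlgebra
    have hloc : IsLocalization.Away g Γ(Z, W) := hVaff.isLocalization_basicOpen g
    obtain ⟨n, b, hb⟩ := IsLocalization.Away.surj g f
    obtain ⟨b', rfl⟩ := hsurj b
    obtain ⟨g', hg'⟩ := hsurj g
    refine ⟨b', g' ^ n, ?_, ?_⟩
    · rw [MvPolynomial.eval₂_pow, ← resO_eval₂ p hWV, hg']
      have hnt : Nontrivial Γ(Z, W) := inferInstance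
      have hu' : IsUnit (resO Z hWV g) := Z.toRingedSpace.isUnit_res_basicOpen g
      exact pow_ne_zero _ hu'.ne_zero
    · rw [MvPolynomial.eval₂_pow, ← resO_eval₂ p hWV, ← resO_eval₂ p hWV, hg', mul_comm]
      exact hb

end Groth.Agent.Vancyc.H678.TwistFam
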